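import Groth.Agent.Unram17.K135.KapPull
import Groth.Agent.Lift.K696.DerLoc
import Groth.Agent.Fga.Torsor
import Groth.Agent.CohqB.HomSheaf
import Groth.Agent.Sga3C.QuotGlue
import Groth.Prelude.Def_Coh

/-!
# Global lifts from local lifts when `H¹` vanishes

`exists_lift_of_H1`: `j : X₀ ⟶ X` a square-zero closed immersion with kernel `M`, `q : Y ⟶ S` with universal
derivation `(Ω, d)`, `g : X₀ ⟶ Y`, `a : X ⟶ S`. If `H¹(X₀, Hom(g^*Ω, M)) = 0` and `g` extends locally on `X` to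
an `S`-morphism, then it extends globally.
-/

set_option autoImplicit false
universe u

open CategoryTheory CategoryTheory.Limits AlgebraicGeometry Opposite TopologicalSpace
open Groth.Agent.Sga67.Sec (Sec res resO res_res resO_resO res_self resO_self res_smul
  eq_of_locally eqO_of_locally)
open K696.Base K696.Thk K696.Diff K696.Act K696.LHom K696.DerLoc
open Groth.Agent.CohqB.HomSheaf

namespace Groth.Agent.Unram17.K135.LiftH1

open KapPull

section sec

variable {X : Scheme.{u}} {F G : X.Modules} {V : X.Opens}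

/-- Local homomorphisms as sections of the sheaf Hom. -/
noncomputable def secOf (φ : LocHom F G V) : Γ(homSheaf F G, V) :=
  mkSec (fun _ hW => φ.appL hW) (fun _ _ hV h m => φ.app_res hV h m)

theorem comp_secOf (φ : LocHom F G V) (W : X.Opens) (hW : W ≤ V) (m : Γ(F, W)) :
    comp (secOf φ) W hW m = φ.app hW m := rfl

theorem secOf_injective : Function.Injective (secOf (F := F) (G := G) (V := V)) := by
  intro φ ψ h
  apply LocHom.ext'
  intro W hW m
  rw [← comp_secOf, ← comp_secOf, h]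

theorem secOf_surjective : Function.Surjective (secOf (F := F) (G := G) (V := V)) := by
  intro s
  refine ⟨{ app := fun {W} hW => (comp s W hW).toAddMonoidHom
            app_smul := fun {W} hW a m => (comp s W hW).map_smul a m
            app_res := fun {W W'} hW hW' m => comp_map s hW hW' m }, ?_⟩
  apply sec_ext
  intro W hW m
  rfl

theorem secOf_add (φ ψ : LocHom F G V) : secOf (φ + ψ) = secOf φ + secOf ψ := by
  apply sec_ext
  intro W hW m
  rw [comp_add]
  rfl

theorem secOf_zero : secOf (0 : LocHom F G V) = 0 := by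
  apply sec_ext
  intro W hW m
  rfl

/-- Local homomorphisms are the sections of the sheaf Hom. -/
noncomputable def secEquiv : LocHom F G V ≃+ Γ(homSheaf F G, V) :=
  AddEquiv.mk' (Equiv.ofBijective secOf ⟨secOf_injective, secOf_surjective⟩) secOf_add

theorem secEquiv_apply (φ : LocHom F G V) : secEquiv φ = secOf φ := rfl

theorem map_secOf {V' : X.Opens} (h : V' ≤ V) (φ : LocHom F G V) :
    (homSheaf F G).presheaf.map (homOfLE h).op (secOf φ) = secOf (LocHom.rs h φ) := by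
  apply sec_ext
  intro W hW m
  rw [comp_res]
  rfl

end sec

theorem subsingleton_of_iso {X : Scheme.{u}} {M N : X.Modules} (e : M ≅ N) (p : ℕ)
    (h : Subsingleton (Coh.HH X M p)) : Subsingleton (Coh.HH X N p) := by
  let e' : Coh.toAb M ≅ Coh.toAb N := (SheafOfModules.toSheaf X.ringCatSheaf).mapIso e
  refine subsingleton_of_forall_eq 0 fun x ↦ ?_
  have h1 : x = Sheaf.H.map e'.hom p (Sheaf.H.map e'.inv p x) := by
    rw [← Sheaf.H.map_comp_apply, e'.inv_hom_id, Sheaf.H.map_id_apply]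
  rw [h1, h.elim (Sheaf.H.map e'.inv p x) 0, map_zero]

/-- A closed immersion whose kernel has vanishing products. -/
theorem ker_sq {T₀ T : Scheme.{u}} (i : T₀ ⟶ T) [IsClosedImmersion i]
    (hsq : ∀ (U : T.affineOpens) (x y : Γ(T, U.1)),
      x ∈ RingHom.ker (i.app U.1).hom → y ∈ RingHom.ker (i.app U.1).hom → x * y = 0) : i.ker ^ 2 = ⊥ := by
  apply Scheme.IdealSheafData.ext
  funext U
  rw [Scheme.IdealSheafData.ideal_pow, Scheme.IdealSheafData.ideal_bot, Pi.pow_apply, Pi.bot_apply, eq_bot_iff, pow_two,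
    Ideal.mul_le]
  intro x hx y hy
  rw [Scheme.Hom.ker_apply] at hx hy
  exact hsq U x y hx hy

section lifts

variable {X₀ X Y S : Scheme.{u}} (j : X₀ ⟶ X) (g : X₀ ⟶ Y) (q : Y ⟶ S) (a : X ⟶ S)

/-- Lifts over the open `O` of `X`. -/
def Lf (O : X.Opens) : Type u :=
  {h : O.toScheme ⟶ Y // (j ∣_ O) ≫ h = (j ⁻¹ᵁ O).ι ≫ g ∧ h ≫ q = O.ι ≫ a}

variable {j g q a}

theorem Lf.ext {O : X.Opens} {t t' : Lf j g q a O} (h : t.1 = t'.1) : t = t' := Subtype.ext h

/-- Restriction of lifts. -/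
noncomputable def Lf.rs {O O' : X.Opens} (h : O' ≤ O) (t : Lf j g q a O) : Lf j g q a O' :=
  ⟨X.homOfLE h ≫ t.1, by
    have h1 : (j ∣_ O') ≫ X.homOfLE h = X₀.homOfLE (j.preimage_mono h) ≫ (j ∣_ O) := by
      rw [← cancel_mono O.ι, Category.assoc, Scheme.homOfLE_ι, Category.assoc, morphismRestrict_ι, morphismRestrict_ι,
        ← Category.assoc, Scheme.homOfLE_ι]
    rw [← Category.assoc, h1, Category.assoc, t.2.1, ← Category.assoc, Scheme.homOfLE_ι], by
    rw [Category.assoc, t.2.2, ← Category.assoc, Scheme.homOfLE_ι]⟩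

theorem Lf.rs_val {O O' : X.Opens} (h : O' ≤ O) (t : Lf j g q a O) : (t.rs h).1 = X.homOfLE h ≫ t.1 := rfl

theorem Lf.rs_self {O : X.Opens} (h : O ≤ O) (t : Lf j g q a O) : t.rs h = t := by
  apply Lf.ext
  rw [Lf.rs_val, Scheme.homOfLE_rfl, Category.id_comp]

theorem Lf.rs_rs {O O' O'' : X.Opens} (h : O' ≤ O) (h' : O'' ≤ O') (t : Lf j g q a O) :
    (t.rs h).rs h' = t.rs (h'.trans h) := by
  apply Lf.ext
  rw [Lf.rs_val, Lf.rs_val, Lf.rs_val, ← Category.assoc, Scheme.homOfLE_homOfLE]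

variable (j g q a)

/-- The presheaf of lifts on `X₀`. -/
noncomputable def Lft : X₀.Opensᵒᵖ ⥤ Type u where
  obj V := Lf j g q a (im j V.unop)
  map {V V'} f := TypeCat.ofHom fun t => t.rs (im_mono j f.unop.le)
  map_id V := by
    ext t
    exact Lf.rs_self _ t
  map_comp f f' := by
    ext t
    exact (Lf.rs_rs _ _ t).symm

variable {j g q a}
variable [IsClosedImmersion j] (hI : j.ker ^ 2 = ⊥) {M : X₀.Modules} (K : Kap (K696.Glob.thg j hI) M)

/-- The difference of two lifts. -/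
noncomputable def dd {O : X.Opens} (t t' : Lf j g q a O) : DerOn g q M (j ⁻¹ᵁ O) :=
  diff (kapr j hI K O) (T := thr j hI O) t.1 t'.1 t.2.1 t'.2.1 (t.2.2.trans t'.2.2.symm)

theorem dd_add {O : X.Opens} (t t' t'' : Lf j g q a O) : dd hI K t t' + dd hI K t' t'' = dd hI K t t'' :=
  diff_add _ _ _ _ _ _ _ _ _

theorem eq_of_dd {O : X.Opens} {t t' : Lf j g q a O} (h : dd hI K t t' = 0) : t = t' :=
  Lf.ext (eq_of_diff_eq_zero _ _ _ _ _ _ h)

theorem dd_rs {O O' : X.Opens} (h : O' ≤ O) (t t' : Lf j g q a O) :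
    dd hI K (t.rs h) (t'.rs h) = (dd hI K t t').rs (j.preimage_mono h) :=
  diff_pull (T := thr j hI O) (T' := thr j hI O') (j.preimage_mono h) (ιrs j hI h) (thr_w' j hI h) (kapr j hI K O)
    (kapr j hI K O') (kapr_κ j hI K h) t.1 t'.1 t.2.1 t'.2.1 _ _ _ _

/-- Adding a derivation to a lift. -/
noncomputable def addD {O : X.Opens} (t : Lf j g q a O) (δ : DerOn g q M (j ⁻¹ᵁ O)) : Lf j g q a O :=
  ⟨addDer (kapr j hI K O) (T := thr j hI O) t.1 t.2.1 δ, j_addDer (kapr j hI K O) (T := thr j hI O) t.1 t.2.1 δ,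
    (addDer_comp (kapr j hI K O) (T := thr j hI O) t.1 t.2.1 δ).trans t.2.2⟩

theorem dd_addD {O : X.Opens} (t : Lf j g q a O) (δ : DerOn g q M (j ⁻¹ᵁ O)) : dd hI K (addD hI K t δ) t = δ :=
  diff_addDer (kapr j hI K O) (T := thr j hI O) t.1 t.2.1 δ

variable {Ω : Y.Modules} {d : OmegaSh.Der q Ω} (hd : OmegaSh.IsUniversal d)

/-- The differences as sections of the sheaf Hom. -/
noncomputable def diffs : Fga.Torsor.Diff (Lft j g q a)
    (Coh.toAb (homSheaf ((Scheme.Modules.pullback g).obj Ω) M)).obj where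
  d {V} t t' := secOf (LocHom.rs (preimage_im j V.unop).ge (derEquiv hd (dd hI K t t')))
  d_add {V} t t' t'' := by
    rw [← dd_add hI K t t' t'', map_add, map_add]
    exact (secOf_add _ _).symm
  map_d {V V'} f t t' := by
    have h1 := map_secOf f.unop.le (LocHom.rs (preimage_im j V.unop).ge (derEquiv hd (dd hI K t t')))
    refine Eq.trans h1 (congrArg secOf ?_)
    have h2 : dd hI K ((Lft j g q a).map f t) ((Lft j g q a).map f t') =
      (dd hI K t t').rs (j.preimage_mono (im_mono j f.unop.le)) := dd_rs hI K _ t t'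
    rw [h2, derEquiv_rs]
    rfl

theorem diffs_d {V : X₀.Opensᵒᵖ} (t t' : (Lft j g q a).obj V) :
    (diffs hI K hd).d t t' = secOf (LocHom.rs (preimage_im j V.unop).ge (derEquiv hd (dd hI K t t'))) := rfl

theorem eq_of_d {V : X₀.Opensᵒᵖ} (t t' : (Lft j g q a).obj V) (h : (diffs hI K hd).d t t' = 0) : t = t' := by
  rw [diffs_d] at h
  have h1 := secOf_injective (h.trans secOf_zero.symm)
  apply eq_of_dd hI K
  apply (derEquiv hd).injective
  rw [map_zero]
  have h2 := congrArg (LocHom.rs (preimage_im j V.unop).le) h1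
  exact h2

theorem exists_normalize {V : X₀.Opensᵒᵖ} (t : (Lft j g q a).obj V) (s : (Coh.toAb (homSheaf ((Scheme.Modules.pullback g).obj Ω) M)).obj.obj V) :
    ∃ t' : (Lft j g q a).obj V, (diffs hI K hd).d t' t = s := by
  obtain ⟨ψ, hψ⟩ := secOf_surjective (F := (Scheme.Modules.pullback g).obj Ω) (G := M) (V := V.unop) s
  refine ⟨addD hI K t ((derEquiv hd).symm (LocHom.rs (preimage_im j V.unop).le ψ)), ?_⟩
  rw [diffs_d, ← hψ, dd_addD, AddEquiv.apply_symm_apply]
  rfl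

include hI K hd in
/-- **Global lifts from local lifts when `H¹` vanishes.** -/
theorem exists_lift_of_H1 (hH : Subsingleton (Coh.HH X₀ (homSheaf ((Scheme.Modules.pullback g).obj Ω) M) 1))
    {ι : Type u} (U : ι → X.Opens) (hU : ∀ x : X, ∃ i, x ∈ U i) (b : ∀ i, Lf j g q a (U i)) :
    ∃ b' : X ⟶ Y, b' ≫ q = a ∧ j ≫ b' = g := by
  have hs : Surjective j := K696.SqZ.surjective_of_sq j hI
  let t : ∀ i, (Lft j g q a).obj (op (j ⁻¹ᵁ (U i))) := fun i => (b i).rs (im_preimage j (U i)).le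
  have hT : Fga.Torsor.LocNonempty (Opens.grothendieckTopology X₀) (Lft j g q a) ⊤ := by
    refine ⟨{ arrows := fun V _ => Nonempty ((Lft j g q a).obj (op V))
              downward_closed := fun {V V'} f h k => h.map ((Lft j g q a).map k.op) }, ?_, fun V f h => h⟩
    intro x hx
    obtain ⟨i, hi⟩ := hU (j x)
    exact ⟨j ⁻¹ᵁ (U i), homOfLE le_top, ⟨t i⟩, hi⟩
  obtain ⟨P⟩ := (diffs hI K hd).exists_potential_of_H1 (isTerminalTop) (Coh.toAb _) hH hT
  choose t' ht' using fun i => exists_normalize hI K hd (t i) (- P.φ (t i))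
  have hφ : ∀ i, P.φ (t' i) = 0 := by
    intro i
    have h1 := P.sub_φ (t' i) (t i)
    rw [ht', sub_eq_iff_eq_add, neg_add_cancel] at h1
    exact h1
  have hcomp : ∀ i k (O : X.Opens) (hi : O ≤ im j (j ⁻¹ᵁ (U i))) (hk : O ≤ im j (j ⁻¹ᵁ (U k))),
      X.homOfLE hi ≫ (t' i).1 = X.homOfLE hk ≫ (t' k).1 := by
    intro i k O hi hk
    let V : X₀.Opens := j ⁻¹ᵁ O
    have h1 : V ≤ j ⁻¹ᵁ (U i) := (le_im_iff j).1 hi
    have h2 : V ≤ j ⁻¹ᵁ (U k) := (le_im_iff j).1 hk
    have h3 : (Lft j g q a).map (homOfLE h1).op (t' i) = (Lft j g q a).map (homOfLE h2).op (t' k) := by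
      apply eq_of_d hI K hd
      rw [← P.sub_φ, ← P.map_φ, ← P.map_φ, hφ, hφ, map_zero, map_zero, sub_self]
    have h4 : (t' i : Lf j g q a (im j (j ⁻¹ᵁ (U i)))).rs (im_mono j h1) =
      (t' k : Lf j g q a (im j (j ⁻¹ᵁ (U k)))).rs (im_mono j h2) := h3
    have h5 := congrArg (fun z : Lf j g q a (im j V) => (z.rs (le_im_preimage j O)).1) h4
    simpa only [Lf.rs_rs, Lf.rs_val] using h5
  obtain ⟨b', hb'⟩ := Sga3C.QuotGlue.exists_glue (fun i => im j (j ⁻¹ᵁ (U i))) (fun x => by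
      obtain ⟨i, hi⟩ := hU x
      exact ⟨i, le_im_preimage j (U i) hi⟩) (fun i => (t' i).1) (fun i k => by
      let O : X.Opens := im j (j ⁻¹ᵁ (U i)) ⊓ im j (j ⁻¹ᵁ (U k))
      let p := pullback.fst (im j (j ⁻¹ᵁ (U i))).ι (im j (j ⁻¹ᵁ (U k))).ι
      let p' := pullback.snd (im j (j ⁻¹ᵁ (U i))).ι (im j (j ⁻¹ᵁ (U k))).ι
      have hpp : p ≫ (im j (j ⁻¹ᵁ (U i))).ι = p' ≫ (im j (j ⁻¹ᵁ (U k))).ι := pullback.condition
      let l := IsOpenImmersion.lift O.ι (p ≫ (im j (j ⁻¹ᵁ (U i))).ι) (by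
        rintro _ ⟨y, rfl⟩
        rw [Scheme.Opens.range_ι]
        refine ⟨?_, ?_⟩
        · exact (p y).2
        · rw [hpp]; exact (p' y).2)
      have hl : l ≫ O.ι = p ≫ (im j (j ⁻¹ᵁ (U i))).ι := IsOpenImmersion.lift_fac _ _ _
      have e1 : p = l ≫ X.homOfLE (inf_le_left : O ≤ _) := by
        rw [← cancel_mono (im j (j ⁻¹ᵁ (U i))).ι, Category.assoc, Scheme.homOfLE_ι, hl]
      have e2 : p' = l ≫ X.homOfLE (inf_le_right : O ≤ _) := by
        rw [← cancel_mono (im j (j ⁻¹ᵁ (U k))).ι, Category.assoc, Scheme.homOfLE_ι, hl, hpp]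
      change p ≫ (t' i).1 = p' ≫ (t' k).1
      rw [e1, e2, Category.assoc, Category.assoc, hcomp i k O inf_le_left inf_le_right])
  refine ⟨b', ?_, ?_⟩
  · refine Sga3C.QuotGlue.hom_ext_opens (fun i => im j (j ⁻¹ᵁ (U i))) (fun x => by
      obtain ⟨i, hi⟩ := hU x
      exact ⟨i, le_im_preimage j (U i) hi⟩) _ _ (fun i => ?_)
    rw [← Category.assoc, hb']
    exact (t' i).2.2
  · refine Sga3C.QuotGlue.hom_ext_opens (fun i => j ⁻¹ᵁ im j (j ⁻¹ᵁ (U i))) (fun x => by
      obtain ⟨i, hi⟩ := hU (j x)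
      exact ⟨i, le_im_preimage j (U i) hi⟩) _ _ (fun i => ?_)
    rw [← Category.assoc, ← morphismRestrict_ι, Category.assoc, hb']
    exact (t' i).2.1

end lifts

end Groth.Agent.Unram17.K135.LiftH1
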