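import Groth.Agent.S2351
import Groth.Agent.Ega2.Normal
import Groth.Agent.Fdesc.IntegralFib

/-!
# Characterization of the normalization of an integral scheme
-/

set_option autoImplicit false
universe u

open CategoryTheory CategoryTheory.Limits AlgebraicGeometry

namespace Groth.Agent.Unram17.K135.NormIff

/-- A morphism from the spectrum of the function field to the base: changing the generic point. -/
theorem specMap_stalkSpecializes {X : Scheme.{u}} {x y : X} (h : x ⤳ y) :
    Spec.map (X.presheaf.stalkSpecializes h) ≫ X.fromSpecStalk y = X.fromSpecStalk x :=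
  Scheme.SpecMap_stalkSpecializes_fromSpecStalk h

variable (X : Scheme.{u}) [IsIntegral X]
    [QuasiCompact (X.fromSpecStalk (genericPoint X))] [QuasiSeparated (X.fromSpecStalk (genericPoint X))]

instance : IsIntegralHom (Curv2.normalizationι X) :=
  inferInstanceAs (IsIntegralHom (X.fromSpecStalk (genericPoint X)).fromNormalization)

/-- If `f : Y ⟶ X` is integral and birational with `Y` normal integral then `Y` is the normalization. -/
theorem exists_iso_of_birational {Y : Scheme.{u}} (f : Y ⟶ X) [IsIntegral Y] (hN : Pi1.IsNormalScheme Y)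
    [IsIntegralHom f] (hgen : f (genericPoint Y) = genericPoint X)
    (hiso : IsIso (f.stalkMap (genericPoint Y))) :
    ∃ e : Y ≅ Curv2.normalization X, e.hom ≫ Curv2.normalizationι X = f := by
  let g := X.fromSpecStalk (genericPoint X)
  have h : f (genericPoint Y) ⤳ genericPoint X := by rw [hgen]
  have h' : genericPoint X ⤳ f (genericPoint Y) := by rw [hgen]
  let c := Spec.map (f.stalkMap (genericPoint Y))
  have hc : c ≫ X.fromSpecStalk (f (genericPoint Y)) = Y.fromSpecStalk (genericPoint Y) ≫ f :=
    Scheme.SpecMap_stalkMap_fromSpecStalk f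
  let g₁ : Spec (X.presheaf.stalk (genericPoint X)) ⟶ Y :=
    Spec.map (X.presheaf.stalkSpecializes h') ≫ inv c ≫ Y.fromSpecStalk (genericPoint Y)
  have H : g = g₁ ≫ f := by
    simp only [g₁, g, Category.assoc]
    rw [← hc, IsIso.inv_hom_id_assoc, specMap_stalkSpecializes]
  let d : Curv2.normalization X ⟶ Y := g.normalizationDesc g₁ f H
  have hd : d ≫ f = Curv2.normalizationι X := g.normalizationDesc_comp g₁ f H
  let n : Spec (X.presheaf.stalk (genericPoint X)) ⟶ Curv2.normalization X := g.toNormalization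
  have hd' : n ≫ d = g₁ := g.toNormalization_normalizationDesc g₁ f H
  have hId : IsIntegralHom d := inferInstanceAs (IsIntegralHom (g.normalizationDesc g₁ f H))
  obtain ⟨hX', -⟩ := Groth.Agent.S2351.result X
  let t : Spec Y.functionField ⟶ Curv2.normalization X :=
    c ≫ Spec.map (X.presheaf.stalkSpecializes h) ≫ n
  have ht : t ≫ d = Y.fromSpecStalk (genericPoint Y) := by
    have h1 : Spec.map (X.presheaf.stalkSpecializes h) ≫ Spec.map (X.presheaf.stalkSpecializes h') = 𝟙 _ := by
      rw [← Spec.map_comp, TopCat.Presheaf.stalkSpecializes_comp, TopCat.Presheaf.stalkSpecializes_refl,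
        Spec.map_id]
    simp only [t, Category.assoc]
    rw [hd']
    simp only [g₁]
    rw [reassoc_of% h1, IsIso.hom_inv_id_assoc]
  have hiso : IsIso d := Groth.Agent.Ega2.Normal.isIso_of_functionField_section hN d t ht
  refine ⟨(asIso d).symm, ?_⟩
  rw [Iso.symm_hom, asIso_inv, IsIso.inv_comp_eq, hd]

omit [QuasiCompact (X.fromSpecStalk (genericPoint X))] [QuasiSeparated (X.fromSpecStalk (genericPoint X))] in
/-- The fibre over the generic point of a dominant integral morphism of integral schemes. -/
theorem preimage_genericPoint {Y : Scheme.{u}} (f : Y ⟶ X) [IrreducibleSpace Y] [IsIntegralHom f]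
    (hgen : f (genericPoint Y) = genericPoint X) : f.base ⁻¹' {genericPoint X} = {genericPoint Y} := by
  ext y
  simp only [Set.mem_preimage, Set.mem_singleton_iff]
  constructor
  · intro hy
    exact (Groth.Agent.Fdesc.IntegralFib.eq_of_specializes_of_isIntegralHom f
      ((genericPoint_spec Y).specializes (Set.mem_univ y)) (hgen.trans hy.symm)).symm
  · rintro rfl
    exact hgen

omit [QuasiCompact (X.fromSpecStalk (genericPoint X))] [QuasiSeparated (X.fromSpecStalk (genericPoint X))] in
theorem isIso_stalkMap_genericPoint {Y : Scheme.{u}} (f : Y ⟶ X) [IsIntegral Y] 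
    (hgen : f (genericPoint Y) = genericPoint X)
    (hb : Function.Bijective (f.residueFieldMap (genericPoint Y)).hom) :
    IsIso (f.stalkMap (genericPoint Y)) := by
  have hX : IsField (X.presheaf.stalk (f (genericPoint Y))) := by
    rw [hgen]; exact Field.toIsField X.functionField
  have hY : IsField (Y.presheaf.stalk (genericPoint Y)) := Field.toIsField Y.functionField
  have key : ∀ (Z : Scheme.{u}) (z : Z) (_ : IsField (Z.presheaf.stalk z)),
      Function.Bijective (Z.residue z).hom := by
    intro Z z hz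
    refine ⟨?_, Scheme.residue_surjective _ _⟩
    rw [RingHom.injective_iff_ker_eq_bot]
    exact (IsLocalRing.ker_residue (R := Z.presheaf.stalk z)).trans
      ((IsLocalRing.isField_iff_maximalIdeal_eq).mp hz)
  have h1 : Function.Bijective (f.stalkMap (genericPoint Y) ≫ Y.residue (genericPoint Y)).hom := by
    rw [← Scheme.residue_residueFieldMap, CommRingCat.hom_comp]
    exact hb.comp (key X _ hX)
  rw [CommRingCat.hom_comp] at h1
  have h2 : Function.Bijective (f.stalkMap (genericPoint Y)).hom :=
    (Function.Bijective.of_comp_iff' (key Y _ hY) _).mp h1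
  exact (ConcreteCategory.isIso_iff_bijective _).mpr h2

/-- the normalization morphism is birational. -/
theorem normalizationι_birational : ∃ _ : IsIntegral (Curv2.normalization X), 
    (Curv2.normalizationι X) (genericPoint (Curv2.normalization X)) = genericPoint X ∧
      IsIso ((Curv2.normalizationι X).stalkMap (genericPoint (Curv2.normalization X))) := by
  obtain ⟨h1, -, -, h2, h3⟩ := Groth.Agent.S2351.result X
  exact ⟨h1, h2, isIso_stalkMap_genericPoint X _ h2 h3⟩

theorem isNormalScheme_of_iso {Y Z : Scheme.{u}} (e : Y ≅ Z) (h : Pi1.IsNormalScheme Z) : Pi1.IsNormalScheme Y := by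
  intro y
  obtain ⟨h1, h2⟩ := h (e.hom y)
  let r := (asIso (e.hom.stalkMap y)).commRingCatIsoToRingEquiv
  have : IsDomain (Z.presheaf.stalk (e.hom y)) := h1
  have h3 : IsDomain (Y.presheaf.stalk y) := r.symm.toMulEquiv.isDomain _
  exact ⟨h3, IsIntegrallyClosed.of_equiv r⟩

theorem birational_of_iso {Y : Scheme.{u}} (f : Y ⟶ X) (e : Y ≅ Curv2.normalization X)
    (he : e.hom ≫ Curv2.normalizationι X = f) : 
    Pi1.IsNormalScheme Y ∧ IsIntegralHom f ∧
        ∃ _ : IrreducibleSpace ↥Y, f.base ⁻¹' {genericPoint X} = {genericPoint Y} ∧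
          IsIso (f.stalkMap (genericPoint Y)) := by
  subst he
  obtain ⟨h1, h2, h3⟩ := normalizationι_birational X
  have h4 := (Groth.Agent.S2351.result X).2.1
  have hne : Nonempty Y := ⟨e.inv (genericPoint (Curv2.normalization X))⟩
  have hY : IsIntegral Y := isIntegral_of_isOpenImmersion e.hom
  have h5 : e.hom (genericPoint Y) = genericPoint (Curv2.normalization X) :=
    genericPoint_eq_of_isOpenImmersion e.hom
  have h6 : (e.hom ≫ Curv2.normalizationι X) (genericPoint Y) = genericPoint X := by
    rw [Scheme.Hom.comp_apply, h5, h2]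
  refine ⟨isNormalScheme_of_iso e h4, inferInstance, inferInstance,
    preimage_genericPoint X _ h6, ?_⟩
  rw [Scheme.Hom.stalkMap_comp]
  have h7 : IsIso ((Curv2.normalizationι X).stalkMap (e.hom (genericPoint Y))) := by
    rw [h5]; exact h3
  exact IsIso.comp_isIso' h7 inferInstance

/-- the characterization -/
theorem iff_birational {Y : Scheme.{u}} (f : Y ⟶ X) :
    (∃ e : Y ≅ Curv2.normalization X, e.hom ≫ Curv2.normalizationι X = f) ↔
      Pi1.IsNormalScheme Y ∧ IsIntegralHom f ∧
        ∃ _ : IrreducibleSpace ↥Y, f.base ⁻¹' {genericPoint X} = {genericPoint Y} ∧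
          IsIso (f.stalkMap (genericPoint Y)) := by
  constructor
  · rintro ⟨e, he⟩
    exact birational_of_iso X f e he
  · rintro ⟨h1, h2, h3, h4, h5⟩
    have hred : IsReduced Y := by
      refine @isReduced_of_isReduced_stalk Y (fun y ↦ ?_)
      have := (h1 y).1
      infer_instance
    have hY : IsIntegral Y := isIntegral_of_irreducibleSpace_of_isReduced _
    have h6 : f (genericPoint Y) = genericPoint X := by
      have : genericPoint Y ∈ f.base ⁻¹' {genericPoint X} := by rw [h4]; rfl
      exact this
    exact exists_iso_of_birational X f h1 h6 h5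

/-- The normalization is an isomorphism over an open with integrally closed stalks. -/
theorem isIso_restrict_of_normal (V : X.Opens) (hV0 : (V : Set ↥X).Nonempty)
    (hV : ∀ x ∈ V, IsIntegrallyClosed (X.presheaf.stalk x)) : IsIso (Curv2.normalizationι X ∣_ V) := by
  let ν := Curv2.normalizationι X
  let g := X.fromSpecStalk (genericPoint X)
  let n : Spec (X.presheaf.stalk (genericPoint X)) ⟶ Curv2.normalization X := g.toNormalization
  have hn : n ≫ ν = g := g.toNormalization_fromNormalization
  obtain ⟨h1, h2, h3⟩ := normalizationι_birational X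
  have hneV : Nonempty V := hV0.to_subtype
  have hVi : IsIntegral (V : Scheme.{u}) := inferInstance
  have hηV : genericPoint X ∈ V :=
    ((genericPoint_spec X).mem_open_set_iff V.2).mpr (by simpa using hV0)
  have hne' : Nonempty (ν ⁻¹ᵁ V) := ⟨⟨genericPoint (Curv2.normalization X), by
    change ν (genericPoint (Curv2.normalization X)) ∈ V
    rw [h2]; exact hηV⟩⟩
  have hVi' : IsIntegral ((ν ⁻¹ᵁ V : (Curv2.normalization X).Opens) : Scheme.{u}) := inferInstance
  have hN : Pi1.IsNormalScheme (V : Scheme.{u}) := by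
    intro v
    have h4 : IsIntegrallyClosed (X.presheaf.stalk (V.ι v)) := hV _ v.2
    refine ⟨inferInstance, ?_⟩
    exact IsIntegrallyClosed.of_equiv (asIso (V.ι.stalkMap v)).commRingCatIsoToRingEquiv
  have h5 : V.ι (genericPoint (V : Scheme.{u})) = genericPoint X :=
    genericPoint_eq_of_isOpenImmersion V.ι
  have h : V.ι (genericPoint (V : Scheme.{u})) ⤳ genericPoint X := by rw [h5]
  let t₀ : Spec (V : Scheme.{u}).functionField ⟶ Curv2.normalization X :=
    Spec.map (V.ι.stalkMap (genericPoint (V : Scheme.{u}))) ≫ Spec.map (X.presheaf.stalkSpecializes h) ≫ n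
  have ht₀ : t₀ ≫ ν = (V : Scheme.{u}).fromSpecStalk (genericPoint (V : Scheme.{u})) ≫ V.ι := by
    simp only [t₀, Category.assoc]
    rw [hn]
    simp only [g]
    rw [specMap_stalkSpecializes, Scheme.SpecMap_stalkMap_fromSpecStalk]
  have hpb := isPullback_morphismRestrict ν V
  let t := hpb.lift ((V : Scheme.{u}).fromSpecStalk (genericPoint (V : Scheme.{u}))) t₀ ht₀.symm
  have ht : t ≫ (ν ∣_ V) = (V : Scheme.{u}).fromSpecStalk (genericPoint (V : Scheme.{u})) :=
    hpb.lift_fst _ _ _
  exact Groth.Agent.Ega2.Normal.isIso_of_functionField_section hN (ν ∣_ V) t ht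

theorem iff_dense_open 
    (hV : ∃ V : X.Opens, (V : Set ↥X).Nonempty ∧ ∀ x ∈ V, IsIntegrallyClosed (X.presheaf.stalk x))
    {Y : Scheme.{u}} (f : Y ⟶ X) :
    (∃ e : Y ≅ Curv2.normalization X, e.hom ≫ Curv2.normalizationι X = f) ↔
      Pi1.IsNormalScheme Y ∧ IsIntegralHom f ∧
        ∃ U : X.Opens, Dense (U : Set ↥X) ∧ Dense ((f ⁻¹ᵁ U : Y.Opens) : Set ↥Y) ∧ IsIso (f ∣_ U) := by
  constructor
  · rintro ⟨e, he⟩
    obtain ⟨h1, h2, h3, h4, h5⟩ := birational_of_iso X f e he
    refine ⟨h1, h2, ?_⟩
    obtain ⟨V, hV0, hV⟩ := hV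
    have h6 := isIso_restrict_of_normal X V hV0 hV
    have hηV : genericPoint X ∈ V :=
      ((genericPoint_spec X).mem_open_set_iff V.2).mpr (by simpa using hV0)
    refine ⟨V, V.2.dense hV0, ?_, ?_⟩
    · refine (f ⁻¹ᵁ V).2.dense ⟨genericPoint Y, ?_⟩
      have : genericPoint Y ∈ f.base ⁻¹' {genericPoint X} := by rw [h4]; rfl
      have h7 : f (genericPoint Y) = genericPoint X := this
      change f (genericPoint Y) ∈ V
      rw [h7]; exact hηV
    · subst he
      rw [morphismRestrict_comp]
      have h7 : IsIso (e.hom ∣_ (Curv2.normalizationι X ⁻¹ᵁ V)) :=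
        IsZariskiLocalAtTarget.restrict (P := MorphismProperty.isomorphisms Scheme.{u}) (f := e.hom)
          (inferInstanceAs (IsIso e.hom)) _
      exact IsIso.comp_isIso' h7 h6
  · rintro ⟨h1, h2, U, hU1, hU2, hU3⟩
    rw [iff_birational]
    refine ⟨h1, h2, ?_⟩
    have hU0 : (U : Set X).Nonempty := hU1.nonempty
    have hneU : Nonempty U := hU0.to_subtype
    have hUi : IsIntegral (U : Scheme.{u}) := inferInstance
    have hW0 : Nonempty (f ⁻¹ᵁ U : Y.Opens) := ⟨(inv (f ∣_ U)) (genericPoint (U : Scheme.{u}))⟩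
    have hWi : IsIntegral ((f ⁻¹ᵁ U : Y.Opens) : Scheme.{u}) := isIntegral_of_isOpenImmersion (f ∣_ U)
    have hYi : IrreducibleSpace Y := by
      rw [irreducibleSpace_def]
      change IsIrreducible (Set.univ : Set Y)
      rw [← hU2.closure_eq]
      have h3 : IsIrreducible (Set.range (f ⁻¹ᵁ U).ι) := by
        rw [← Set.image_univ]
        exact (IrreducibleSpace.isIrreducible_univ _).image _ (f ⁻¹ᵁ U).ι.continuous.continuousOn
      rw [Scheme.Opens.range_ι] at h3
      exact h3.closure
    have h3 : (f ⁻¹ᵁ U).ι (genericPoint ((f ⁻¹ᵁ U : Y.Opens) : Scheme.{u})) = genericPoint Y :=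
      genericPoint_eq_of_isOpenImmersion _
    have h4 : (f ∣_ U) (genericPoint ((f ⁻¹ᵁ U : Y.Opens) : Scheme.{u})) = genericPoint (U : Scheme.{u}) :=
      genericPoint_eq_of_isOpenImmersion _
    have h5 : U.ι (genericPoint (U : Scheme.{u})) = genericPoint X :=
      genericPoint_eq_of_isOpenImmersion _
    have h6 : f (genericPoint Y) = genericPoint X := by
      rw [← h3, ← Scheme.Hom.comp_apply, ← morphismRestrict_ι, Scheme.Hom.comp_apply, h4, h5]
    refine ⟨hYi, preimage_genericPoint X f h6, ?_⟩
    have h7 : IsIso (f.stalkMap ((f ⁻¹ᵁ U).ι (genericPoint ((f ⁻¹ᵁ U : Y.Opens) : Scheme.{u})))) := by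
      have e := morphismRestrictStalkMap f U (genericPoint ((f ⁻¹ᵁ U : Y.Opens) : Scheme.{u}))
      exact ((MorphismProperty.isomorphisms CommRingCat.{u}).arrow_mk_iso_iff e).mp
        (inferInstanceAs (IsIso ((f ∣_ U).stalkMap _)))
    rw [h3] at h7
    exact h7

end Groth.Agent.Unram17.K135.NormIff
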