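import Groth.Agent.Smoothlim.LimDescendSource
import Groth.Agent.Ega43.FPOfComp

/-!
# A property of morphisms near a point descends to a stage of a cofiltered limit
-/

set_option autoImplicit false
set_option backward.isDefEq.respectTransparency false
universe u

open CategoryTheory CategoryTheory.Limits AlgebraicGeometry

namespace Groth.Agent.Unram17.K135.NhdStage

open Groth.Agent.Smoothlim.LimBase

/-- if `h ≫ i` has `P` and `i` is a monomorphism, then `h` has `P`. -/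
lemma of_comp_mono {P : MorphismProperty Scheme.{u}} [P.IsStableUnderBaseChange] {X Y Z : Scheme.{u}}
    (h : X ⟶ Y) (i : Y ⟶ Z) [Mono i] (hP : P (h ≫ i)) : P h :=
  P.of_isPullback (f := i) (g := h ≫ i) (f' := 𝟙 X) (g' := h)
    (IsPullback.of_isLimit' ⟨by simp⟩ (PullbackCone.IsLimit.mk _ (fun s ↦ s.fst)
      (fun s ↦ by simp) (fun s ↦ by rw [← cancel_mono i, Category.assoc, ← s.condition])
      (fun s m h1 _ ↦ by simpa using h1))) hP

/-- the restriction of a pulled back morphism to the preimage of an open on which the original has `P`. -/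
lemma of_stage {P : MorphismProperty Scheme.{u}} [P.IsStableUnderBaseChange]
    {S Si Sj X₀ Y₀ X Y Xj Yj : Scheme.{u}} (πj : S ⟶ Sj) (a : Sj ⟶ Si)
    (f₀ : X₀ ⟶ Y₀) (g₀ : Y₀ ⟶ Si) (f : X ⟶ Y) (g : Y ⟶ S) (qY : Y ⟶ Y₀) (qX : X ⟶ X₀)
    (hY : IsPullback qY g g₀ (πj ≫ a)) (hX : IsPullback qX f f₀ qY)
    (fj : Xj ⟶ Yj) (gj : Yj ⟶ Sj) (pY : Yj ⟶ Y₀) (pX : Xj ⟶ X₀) (rX : X ⟶ Xj)
    (h1 : IsPullback pY gj g₀ a) (h2 : IsPullback pX fj f₀ pY)
    (h3 : rX ≫ pX = qX) (h4 : rX ≫ fj ≫ gj = f ≫ g ≫ πj) (V : Xj.Opens) (hV : P (V.ι ≫ fj)) :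
    P ((rX ⁻¹ᵁ V).ι ≫ f) := by
  let rY : Y ⟶ Yj := h1.lift qY (g ≫ πj) (by rw [hY.w, Category.assoc])
  have hr1 : rY ≫ pY = qY := h1.lift_fst _ _ _
  have hr2 : rY ≫ gj = g ≫ πj := h1.lift_snd _ _ _
  have hcomm : rX ≫ fj = f ≫ rY := by
    apply h1.hom_ext
    · rw [Category.assoc, ← h2.w, ← Category.assoc, h3, hX.w, Category.assoc, hr1]
    · rw [Category.assoc, h4, Category.assoc, hr2]
  have h5 : IsPullback rX f fj rY := by
    refine IsPullback.of_right (h₁₂ := pX) (h₂₂ := pY) (v₁₃ := f₀) ?_ hcomm h2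
    rw [h3, hr1]
    exact hX
  have h6 : IsPullback (rX ⁻¹ᵁ V).ι (rX ∣_ V) rX V.ι := (isPullback_morphismRestrict rX V).flip
  exact P.of_isPullback (h6.flip.paste_vert h5) hV

/-- restricting to opens: the base change of `a : V' ⟶ W` has `P`. -/
lemma snd_of_open {P : MorphismProperty Scheme.{u}} [P.IsStableUnderBaseChange]
    [IsZariskiLocalAtSource P] {X Y Xψ Yψ V' W Y' : Scheme.{u}}
    {f : X ⟶ Y} {rX : X ⟶ Xψ} {rY : Y ⟶ Yψ} {fψ : Xψ ⟶ Yψ} (h : IsPullback rX f fψ rY)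
    (v : V' ⟶ Xψ) (w : W ⟶ Yψ) [IsOpenImmersion v] [IsOpenImmersion w] (a : V' ⟶ W)
    (haw : a ≫ w = v ≫ fψ) {n : Y' ⟶ Y} {q : Y' ⟶ W} (hn : IsPullback n q rY w)
    (U : X.Opens) (hU : P (U.ι ≫ f)) (hVU : ∀ y : X, rX y ∈ Set.range v → y ∈ U) :
    P (pullback.snd a q) := by
  have hn' : IsOpenImmersion n := MorphismProperty.of_isPullback hn.flip ‹IsOpenImmersion w›
  let o' : pullback a q ⟶ pullback fψ rY := pullback.map a q fψ rY v n w haw hn.w.symm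
  let o : pullback a q ⟶ X := o' ≫ h.isoPullback.inv
  have ho1 : o ≫ rX = pullback.fst a q ≫ v := by
    simp [o, o']
  have ho2 : o ≫ f = pullback.snd a q ≫ n := by
    simp [o, o']
  have hrange : Set.range o ⊆ Set.range U.ι := by
    rw [Scheme.Opens.range_ι]
    rintro _ ⟨t, rfl⟩
    apply hVU
    refine ⟨pullback.fst a q t, ?_⟩
    rw [← Scheme.Hom.comp_apply, ← Scheme.Hom.comp_apply, ho1]
  let k : pullback a q ⟶ U := IsOpenImmersion.lift U.ι o hrange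
  have hk : k ≫ U.ι = o := IsOpenImmersion.lift_fac _ _ _
  have hk' : IsOpenImmersion k := by
    have : IsOpenImmersion (k ≫ U.ι) := by rw [hk]; infer_instance
    exact IsOpenImmersion.of_comp k U.ι
  refine of_comp_mono _ n ?_
  rw [← ho2, ← hk, Category.assoc]
  exact IsZariskiLocalAtSource.comp hU k

/-- the neighbourhood at a stage. -/
lemma exists_open_of_snd {P : MorphismProperty Scheme.{u}} 
    [IsZariskiLocalAtSource P] [P.IsStableUnderComposition]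
    (hop : ∀ {X Y : Scheme.{u}} (i : X ⟶ Y) [IsOpenImmersion i], P i)
    {Xψ Yψ V' W Sψ Sj : Scheme.{u}} {fψ : Xψ ⟶ Yψ} 
    (v : V' ⟶ Xψ) (w : W ⟶ Yψ) [IsOpenImmersion v] [IsOpenImmersion w] (a : V' ⟶ W)
    (haw : a ≫ w = v ≫ fψ) (s : Yψ ⟶ Sψ) (d : Sj ⟶ Sψ)
    (hP : P (pullback.snd a (pullback.fst (w ≫ s) d)))
    (z : ↥(pullback fψ (pullback.fst s d))) (hz : pullback.fst fψ (pullback.fst s d) z ∈ Set.range v) :
    ∃ V : (pullback fψ (pullback.fst s d)).Opens, z ∈ V ∧ P (V.ι ≫ pullback.snd fψ (pullback.fst s d)) := by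
  let m : pullback a (pullback.fst (w ≫ s) d) ⟶ pullback fψ (pullback.fst s d) :=
    pullback.map a (pullback.fst (w ≫ s) d) fψ (pullback.fst s d) v (pbMap w s d) w haw
      (pbMap_fst w s d).symm
  have hm : m ≫ pullback.snd fψ (pullback.fst s d) = pullback.snd _ _ ≫ pbMap w s d := by
    simp [m]
  refine ⟨m.opensRange, ?_, ?_⟩
  · have h1 := Scheme.Pullback.range_map a (pullback.fst (w ≫ s) d) fψ (pullback.fst s d) v (pbMap w s d) w haw
      (pbMap_fst w s d).symm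
    change z ∈ Set.range m
    rw [h1]
    refine ⟨hz, ?_⟩
    have h2 : pullback.fst s d (pullback.snd fψ (pullback.fst s d) z) ∈ Set.range w := by
      rw [← Scheme.Hom.comp_apply, ← pullback.condition, Scheme.Hom.comp_apply]
      obtain ⟨t, ht⟩ := hz
      rw [← ht, ← Scheme.Hom.comp_apply, ← haw, Scheme.Hom.comp_apply]
      exact ⟨_, rfl⟩
    have h3 := isPullback_pbMap w s d
    have h4 : Set.range (pbMap w s d) = pullback.fst s d ⁻¹' Set.range w := by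
      rw [← h3.isoPullback_hom_fst, ← Scheme.Pullback.range_fst]
      ext t
      constructor
      · rintro ⟨y, rfl⟩
        exact ⟨h3.isoPullback.hom y, by rw [← Scheme.Hom.comp_apply]⟩
      · rintro ⟨y, rfl⟩
        refine ⟨h3.isoPullback.inv y, ?_⟩
        rw [← Scheme.Hom.comp_apply, Iso.inv_hom_id_assoc]
    change pullback.snd fψ (pullback.fst s d) z ∈ Set.range (pbMap w s d)
    rw [h4]
    exact h2
  · have h1 : m.opensRange.ι = m.isoOpensRange.inv ≫ m := by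
      rw [Iso.eq_inv_comp, Scheme.Hom.isoOpensRange_hom_ι]
    rw [h1, Category.assoc, hm]
    refine P.comp_mem _ _ (hop _) (P.comp_mem _ _ hP (hop _))

/-- Descent to a stage of the property `P` of a morphism near a point. -/
theorem nhd_iff {P : MorphismProperty Scheme.{u}} [P.IsStableUnderBaseChange]
    [IsZariskiLocalAtTarget P] [IsZariskiLocalAtSource P] [P.IsStableUnderComposition]
    (hop : ∀ {X Y : Scheme.{u}} (i : X ⟶ Y) [IsOpenImmersion i], P i)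
    (hA : DescendsAffine (@LocallyOfFinitePresentation ⊓ @QuasiCompact) P)
    {I : Type u} [SmallCategory I] [IsCofiltered I]
    (D : I ⥤ Scheme.{u}) (c : Limits.Cone D) (hc : Limits.IsLimit c)
    [∀ (i j : I) (f : i ⟶ j), IsAffineHom (D.map f)] (i₀ : I)
    {X₀ Y₀ : Scheme.{u}} (f₀ : X₀ ⟶ Y₀) (g₀ : Y₀ ⟶ D.obj i₀)
    [LocallyOfFinitePresentation g₀] [LocallyOfFinitePresentation (f₀ ≫ g₀)]
    {X Y : Scheme.{u}} (f : X ⟶ Y) (g : Y ⟶ c.pt) (qY : Y ⟶ Y₀) (qX : X ⟶ X₀)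
    (hY : IsPullback qY g g₀ (c.π.app i₀)) (hX : IsPullback qX f f₀ qY) (x : ↥X) :
    (∃ U : X.Opens, x ∈ U ∧ P (U.ι ≫ f)) ↔
      ∃ (j : I) (φ : j ⟶ i₀) (Xj Yj : Scheme.{u}) (fj : Xj ⟶ Yj) (gj : Yj ⟶ D.obj j) (pY : Yj ⟶ Y₀)
        (pX : Xj ⟶ X₀) (rX : X ⟶ Xj), IsPullback pY gj g₀ (D.map φ) ∧ IsPullback pX fj f₀ pY ∧
          rX ≫ pX = qX ∧ rX ≫ fj ≫ gj = f ≫ g ≫ c.π.app j ∧
            ∃ V : Xj.Opens, rX.base x ∈ V ∧ P (V.ι ≫ fj) := by
  have hf₀ : LocallyOfFinitePresentation f₀ :=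
    Groth.Agent.Ega43.FPOfComp.locallyOfFinitePresentation_of_comp f₀ g₀
  constructor
  · rintro ⟨U, hxU, hPU⟩
    -- an affine open of `Y₀`
    obtain ⟨_, ⟨W₀, hW₀, rfl⟩, hyW, -⟩ := Y₀.isBasis_affineOpens.exists_subset_of_mem_open
      (Set.mem_univ (qY (f x))) isOpen_univ
    replace hW₀ : IsAffineOpen W₀ := hW₀
    -- the diagram `X₀ ×[D i₀] D φ.left`
    let E : Over i₀ ⥤ Scheme.{u} := pbDiag D i₀ (f₀ ≫ g₀)
    have hq : IsPullback qX (f ≫ g) (f₀ ≫ g₀) (c.π.app i₀) := hX.paste_vert hY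
    let cE : Cone E := pbCone i₀ (f₀ ≫ g₀) c qX (f ≫ g) hq.toCommSq
    have hcE : IsLimit cE := isLimitPbCone i₀ (f₀ ≫ g₀) c hc qX (f ≫ g) hq
    have hE' : ∀ {φ ψ : Over i₀} (h : φ ⟶ ψ), IsAffineHom (E.map h) :=
      fun h ↦ isAffineHom_pbDiag_map D i₀ (f₀ ≫ g₀) h
    obtain ⟨_, ⟨O, ⟨φ, V, hV, rfl⟩, rfl⟩, hxV, hVU⟩ :=
      (isBasis_preimage_isAffineOpen E cE hcE).exists_subset_of_mem_open
        (u := ((U ⊓ qX ⁻¹ᵁ f₀ ⁻¹ᵁ W₀ : X.Opens) : Set X)) (a := x)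
        ⟨hxU, by
          change f₀ (qX x) ∈ W₀
          have : f₀ (qX x) = qY (f x) := by
            rw [← Scheme.Hom.comp_apply, hX.w, Scheme.Hom.comp_apply]
          rw [this]; exact hyW⟩ (U ⊓ qX ⁻¹ᵁ f₀ ⁻¹ᵁ W₀).2
    have hVU1 : cE.π.app φ ⁻¹ᵁ V ≤ U := fun y hy => (hVU hy).1
    have hVU2 : cE.π.app φ ⁻¹ᵁ V ≤ qX ⁻¹ᵁ f₀ ⁻¹ᵁ W₀ := fun y hy => (hVU hy).2
    have hcE1 (φ : Over i₀) : cE.π.app φ ≫ pullback.fst (f₀ ≫ g₀) (D.map φ.hom) = qX := by
      simp [cE]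
    obtain ⟨ψ, m, hm⟩ := exists_map_preimage_le_map_preimage E cE hcE (i := φ) (U := V)
      (V := (pullback.fst (f₀ ≫ g₀) (D.map φ.hom)) ⁻¹ᵁ f₀ ⁻¹ᵁ W₀) hV.isCompact (by
        refine hVU2.trans (le_of_eq ?_)
        exact congr($((hcE1 φ).symm) ⁻¹ᵁ f₀ ⁻¹ᵁ W₀))
    -- we increased the stage so that `V` maps to `W₀`
    have hEfst {φ ψ : Over i₀} (m : ψ ⟶ φ) : E.map m ≫ pullback.fst (f₀ ≫ g₀) (D.map φ.hom) =
        pullback.fst (f₀ ≫ g₀) (D.map ψ.hom) := by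
      simp [E]
    obtain ⟨V', hV', hxV', hV'U, hV'W⟩ : ∃ V' : (E.obj ψ).Opens, IsAffineOpen V' ∧
        x ∈ cE.π.app ψ ⁻¹ᵁ V' ∧ cE.π.app ψ ⁻¹ᵁ V' ≤ U ∧
        V' ≤ (pullback.fst (f₀ ≫ g₀) (D.map ψ.hom)) ⁻¹ᵁ f₀ ⁻¹ᵁ W₀ := by
      have h1 : cE.π.app ψ ⁻¹ᵁ (E.map m ⁻¹ᵁ V) = cE.π.app φ ⁻¹ᵁ V := by
        rw [← Scheme.Hom.comp_preimage, cE.w m]
      refine ⟨E.map m ⁻¹ᵁ V, hV.preimage _, ?_, ?_, ?_⟩
      · rw [h1]; exact hxV
      · rw [h1]; exact hVU1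
      · refine hm.trans (le_of_eq ?_)
        exact congr($(hEfst m) ⁻¹ᵁ f₀ ⁻¹ᵁ W₀)
    clear hVU1 hVU2 hVU hxV hm hV
    -- the stage `ψ`
    let p := pullback.fst g₀ (D.map ψ.hom)
    let s := pullback.snd g₀ (D.map ψ.hom)
    let fψ : E.obj ψ ⟶ pullback g₀ (D.map ψ.hom) :=
      pullback.lift (pullback.fst (f₀ ≫ g₀) (D.map ψ.hom) ≫ f₀) (pullback.snd (f₀ ≫ g₀) (D.map ψ.hom))
        (by rw [Category.assoc, pullback.condition])
    have hp : IsAffineHom p := MorphismProperty.pullback_fst _ _ inferInstance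
    have hfψp : fψ ≫ p = pullback.fst (f₀ ≫ g₀) (D.map ψ.hom) ≫ f₀ := pullback.lift_fst _ _ _
    have hfψs : fψ ≫ s = pullback.snd (f₀ ≫ g₀) (D.map ψ.hom) := pullback.lift_snd _ _ _
    have hYψ : IsPullback p s g₀ (D.map ψ.hom) := IsPullback.of_hasPullback _ _
    have hψ : IsPullback (pullback.fst (f₀ ≫ g₀) (D.map ψ.hom)) fψ f₀ p := by
      refine IsPullback.of_bot ?_ hfψp.symm hYψ
      rw [hfψs]
      exact IsPullback.of_hasPullback _ _
    have hfψ : LocallyOfFinitePresentation fψ :=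
      MorphismProperty.of_isPullback (P := @LocallyOfFinitePresentation) hψ hf₀
    let W := p ⁻¹ᵁ W₀
    have hW : IsAffineOpen W := hW₀.preimage p
    have hV'W' : V' ≤ fψ ⁻¹ᵁ W := by
      refine hV'W.trans (le_of_eq ?_)
      exact congr($(hfψp.symm) ⁻¹ᵁ W₀)
    let a := fψ.resLE W V' hV'W'
    have ha : a ≫ W.ι = V'.ι ≫ fψ := Scheme.Hom.resLE_comp_ι _ _
    have haff1 : IsAffine V' := hV'
    have haff2 : IsAffine W := hW
    -- the maps from the limit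
    let rX : X ⟶ E.obj ψ := cE.π.app ψ
    have hrX1 : rX ≫ pullback.fst (f₀ ≫ g₀) (D.map ψ.hom) = qX := hcE1 ψ
    have hrX2 : rX ≫ pullback.snd (f₀ ≫ g₀) (D.map ψ.hom) = f ≫ g ≫ c.π.app ψ.left := by
      simp [rX, cE, E]
    let rY : Y ⟶ pullback g₀ (D.map ψ.hom) := pullback.lift qY (g ≫ c.π.app ψ.left)
      (by rw [hY.w, Category.assoc, c.w])
    have hrY1 : rY ≫ p = qY := pullback.lift_fst _ _ _
    have hrY2 : rY ≫ s = g ≫ c.π.app ψ.left := pullback.lift_snd _ _ _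
    have hYr : IsPullback rY g s (c.π.app ψ.left) := by
      refine IsPullback.of_right ?_ hrY2 hYψ
      rw [hrY1, c.w]
      exact hY
    have hcomm : rX ≫ fψ = f ≫ rY := by
      apply hYψ.hom_ext
      · rw [Category.assoc, hfψp, ← Category.assoc, hrX1, hX.w, Category.assoc, hrY1]
      · rw [Category.assoc, hfψs, hrX2, Category.assoc, hrY2]
    have hXr : IsPullback rX f fψ rY := by
      refine IsPullback.of_right ?_ hcomm hψ
      rw [hrX1, hrY1]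
      exact hX
    -- the restriction over `W`
    let qY' := pullback.fst (W.ι ≫ s) (c.π.app ψ.left)
    let g' := pullback.snd (W.ι ≫ s) (c.π.app ψ.left)
    have hY' : IsPullback qY' g' (W.ι ≫ s) (c.π.app ψ.left) := IsPullback.of_hasPullback _ _
    have hX' : IsPullback (pullback.fst a qY') (pullback.snd a qY') a qY' := IsPullback.of_hasPullback _ _
    let n : pullback (W.ι ≫ s) (c.π.app ψ.left) ⟶ Y := hYr.lift (qY' ≫ W.ι) g'
      (by rw [Category.assoc]; exact hY'.w)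
    have hn1 : n ≫ rY = qY' ≫ W.ι := hYr.lift_fst _ _ _
    have hn2 : n ≫ g = g' := hYr.lift_snd _ _ _
    have hn : IsPullback n qY' rY W.ι := by
      refine (IsPullback.of_bot ?_ hn1.symm hYr).flip
      rw [hn2]
      exact hY'
    have hP' : P (pullback.snd a qY') := by
      refine snd_of_open hXr V'.ι W.ι a ha hn U hPU fun y hy ↦ hV'U ?_
      rw [Scheme.Opens.range_ι] at hy
      exact hy
    have hQa : (@LocallyOfFinitePresentation ⊓ @QuasiCompact : MorphismProperty Scheme.{u}) a :=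
      ⟨inferInstance, inferInstance⟩
    obtain ⟨j, χ, hj⟩ := exists_descend hA D c hc ψ.left a (W.ι ≫ s) (pullback.snd a qY') g' qY'
      (pullback.fst a qY') hY' hX' hQa hP'
    let Yj := pullback s (D.map χ)
    let rYj : Y ⟶ Yj := pullback.lift rY (g ≫ c.π.app j) (by rw [hrY2, Category.assoc, c.w])
    let Xj := pullback fψ (pullback.fst s (D.map χ))
    let rXj : X ⟶ Xj := pullback.lift rX (f ≫ rYj) (by
      rw [Category.assoc, pullback.lift_fst, hcomm])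
    have hz : pullback.fst fψ (pullback.fst s (D.map χ)) (rXj x) ∈ Set.range V'.ι := by
      rw [← Scheme.Hom.comp_apply, pullback.lift_fst, Scheme.Opens.range_ι]
      exact hxV'
    obtain ⟨V₁, hxV₁, hV₁⟩ := exists_open_of_snd hop V'.ι W.ι a ha s (D.map χ) hj (rXj x) hz
    refine ⟨j, χ ≫ ψ.hom, Xj, Yj, pullback.snd _ _, pullback.snd _ _, pullback.fst s (D.map χ) ≫ p,
      pullback.fst fψ (pullback.fst s (D.map χ)) ≫ pullback.fst (f₀ ≫ g₀) (D.map ψ.hom), rXj,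
      ?_, ?_, ?_, ?_, V₁, hxV₁, hV₁⟩
    · rw [D.map_comp]
      exact (IsPullback.of_hasPullback s (D.map χ)).paste_horiz hYψ
    · exact (IsPullback.of_hasPullback fψ (pullback.fst s (D.map χ))).paste_horiz hψ
    · rw [← Category.assoc, pullback.lift_fst, hrX1]
    · rw [← Category.assoc, pullback.lift_snd, Category.assoc, pullback.lift_snd]
  · rintro ⟨j, φ, Xj, Yj, fj, gj, pY, pX, rX, h1, h2, h3, h4, V, hxV, hV⟩
    refine ⟨rX ⁻¹ᵁ V, hxV, ?_⟩
    exact of_stage (c.π.app j) (D.map φ) f₀ g₀ f g qY qX (by rwa [c.w φ]) hX fj gj pY pX rX h1 h2 h3 h4 V hV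

end Groth.Agent.Unram17.K135.NhdStage
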