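import Groth.Agent.S1386
import Groth.Agent.S2156
import Groth.Agent.S2756
import Groth.Agent.UnramA.FibreFlat
import Groth.Agent.UnramA.Locus
import Groth.Agent.Ega3B.FibreSpread
import Groth.Agent.Unram17.K135.NhdStage

/-!
# Smoothness, etaleness and unramifiedness at a point via the map of fibres over a base
-/

set_option autoImplicit false
universe u

open CategoryTheory CategoryTheory.Limits AlgebraicGeometry

namespace Groth.Agent.Unram17.K135.FibreMapAt

open Groth.Agent.Ega3B.FibreSpread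

variable {X Y S : Scheme.{u}}

/-- if `f` has a property stable under base change near `x`, so has the map of fibres near `x`. -/
theorem fiberMapOver_near (P : MorphismProperty Scheme.{u}) [P.IsStableUnderBaseChange]
    (g : Y ⟶ S) (h : X ⟶ S) (f : X ⟶ Y) (w : f ≫ g = h) (s : S) (x' : ↥(h.fiber s))
    (H : ∃ U : X.Opens, (h.fiberι s) x' ∈ U ∧ P (U.ι ≫ f)) :
    ∃ V : (h.fiber s).Opens, x' ∈ V ∧ P (V.ι ≫ CohIII.fiberMapOver f h g w s) := by
  obtain ⟨U, hxU, hU⟩ := H
  refine ⟨h.fiberι s ⁻¹ᵁ U, hxU, ?_⟩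
  have h1 := isPullback_fiberMapOver f h g w s
  have h2 := isPullback_morphismRestrict (h.fiberι s) U
  exact P.of_isPullback (h2.paste_vert h1.flip) hU

theorem unramified_iff (g : Y ⟶ S) (h : X ⟶ S)
    [LocallyOfFinitePresentation g] [LocallyOfFinitePresentation h] (f : X ⟶ Y) (w : f ≫ g = h)
    (x : ↥X)
    (x' : ↥(h.fiber (h x))) (hx' : (h.fiberι (h x)) x' = x) :
    (∃ U : X.Opens, x ∈ U ∧ FormallyUnramified (U.ι ≫ f)) ↔
      ∃ V : (h.fiber (h x)).Opens, x' ∈ V ∧ FormallyUnramified (V.ι ≫ CohIII.fiberMapOver f h g w (h x)) := by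
  have hf : LocallyOfFinitePresentation f := by
    have : LocallyOfFinitePresentation (f ≫ g) := by rw [w]; infer_instance
    exact Groth.Agent.Ega43.FPOfComp.locallyOfFinitePresentation_of_comp f g
  constructor
  · intro H
    refine fiberMapOver_near @FormallyUnramified g h f w (h x) x' ?_
    rw [hx']
    exact H
  · rintro ⟨V, hxV, hV⟩
    have h1 := (isPullback_fiberMapOver f h g w (h x)).flip
    let e := h1.isoPullback
    let V' : (pullback f (g.fiberι (h x))).Opens := e.inv ⁻¹ᵁ V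
    have h2 : FormallyUnramified (V'.ι ≫ pullback.snd f (g.fiberι (h x))) := by
      have h3 : V'.ι ≫ pullback.snd f (g.fiberι (h x)) =
          (e.inv ∣_ V) ≫ V.ι ≫ CohIII.fiberMapOver f h g w (h x) := by
        rw [morphismRestrict_ι_assoc, h1.isoPullback_inv_snd]
      rw [h3]
      exact MorphismProperty.comp_mem @FormallyUnramified _ _ inferInstance hV
    have h3 := Groth.Agent.S2756.result f (g.fiberι (h x)) (e.hom x')
      ⟨V', by
        change e.inv (e.hom x') ∈ V
        rw [← Scheme.Hom.comp_apply, Iso.hom_inv_id]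
        exact hxV, h2⟩
    have h4 : pullback.fst f (g.fiberι (h x)) (e.hom x') = x := by
      rw [← Scheme.Hom.comp_apply, h1.isoPullback_hom_fst, hx']
    rw [← h4]
    exact h3

theorem smooth_iff (g : Y ⟶ S) (h : X ⟶ S)
    [LocallyOfFinitePresentation g] [LocallyOfFinitePresentation h] (f : X ⟶ Y) (w : f ≫ g = h)
    (x : ↥X) (hflat : (h.stalkMap x).hom.Flat)
    (x' : ↥(h.fiber (h x))) (hx' : (h.fiberι (h x)) x' = x) :
    (∃ U : X.Opens, x ∈ U ∧ Smooth (U.ι ≫ f)) ↔
      ∃ V : (h.fiber (h x)).Opens, x' ∈ V ∧ Smooth (V.ι ≫ CohIII.fiberMapOver f h g w (h x)) := by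
  have hf : LocallyOfFinitePresentation f := by
    have : LocallyOfFinitePresentation (f ≫ g) := by rw [w]; infer_instance
    exact Groth.Agent.Ega43.FPOfComp.locallyOfFinitePresentation_of_comp f g
  constructor
  · intro H
    refine fiberMapOver_near @Smooth g h f w (h x) x' ?_
    rw [hx']
    exact H
  · rintro ⟨V, hxV, hV⟩
    subst w
    have hx'' : x' = (f ≫ g).asFiber x := by
      apply ((f ≫ g).fiberι ((f ≫ g) x)).injective
      rw [hx']
      exact (Scheme.Hom.fiberι_asFiber (f ≫ g) x).symm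
    subst hx''
    have hF : CohIII.fiberMapOver f (f ≫ g) g rfl ((f ≫ g) x) = MoreMor.fiberMap f g (g (f x)) := by
      have h1 := fiberMapOver_fiberι f (f ≫ g) g rfl ((f ≫ g) x)
      have h2 := fiberMapOver_toSpec f (f ≫ g) g rfl ((f ≫ g) x)
      have h3 : MoreMor.fiberMap f g (g (f x)) ≫ g.fiberι (g (f x)) = (f ≫ g).fiberι (g (f x)) ≫ f :=
        pullback.lift_fst _ _ _
      have h4 : MoreMor.fiberMap f g (g (f x)) ≫ g.fiberToSpecResidueField (g (f x)) =
          (f ≫ g).fiberToSpecResidueField (g (f x)) := pullback.lift_snd _ _ _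
      have hpb : IsPullback (g.fiberι (g (f x))) (g.fiberToSpecResidueField (g (f x))) g
        (S.fromSpecResidueField (g (f x))) := IsPullback.of_hasPullback _ _
      exact hpb.hom_ext (h1.trans h3.symm) (h2.trans h4.symm)
    have hsmF : ((CohIII.fiberMapOver f (f ≫ g) g rfl ((f ≫ g) x)).stalkMap ((f ≫ g).asFiber x)).hom.Flat := by
      have h1 := Flat.stalkMap (V.ι ≫ CohIII.fiberMapOver f (f ≫ g) g rfl ((f ≫ g) x)) ⟨_, hxV⟩
      exact (Groth.Agent.UnramA.Locus.stalkMap_comp_iff RingHom.Flat RingHom.Flat.respectsIso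
        V.ι _ ⟨_, hxV⟩).mp h1
    have hflat2 : ((MoreMor.fiberMap f g (g (f x))).stalkMap ((f ≫ g).asFiber x)).hom.Flat := by
      rw [← hF]
      exact hsmF
    have h1 := (((Groth.Agent.S1386.result f g).1 x).mp ⟨hflat, hflat2⟩).2
    rw [Groth.Agent.UnramA.Locus.smooth_nhd_iff]
    have hl : LocallyOfFinitePresentation (f.fiberToSpecResidueField (f.base x)) :=
      inferInstanceAs (LocallyOfFinitePresentation (pullback.snd f _))
    have h2 : x ∈ f.smoothLocus := by
      rw [Groth.Agent.S2156.result]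
      refine ⟨h1, ?_⟩
      have H1 := isPullback_fiberMapOver f (f ≫ g) g rfl ((f ≫ g) x)
      have H2 : IsPullback (f.fiberι (f x)) (f.fiberToSpecResidueField (f x)) f
          (g.asFiberHom (f x) ≫ g.fiberι _) := by
        rw [g.asFiberHom_fiberι (f x)]
        exact (IsPullback.of_hasPullback f (Y.fromSpecResidueField (f x)))
      have H3 := IsPullback.of_right' H2 H1.flip
      set t := H1.flip.lift (f.fiberι (f x)) (f.fiberToSpecResidueField (f x) ≫ g.asFiberHom (f x))
        (by rw [H2.w, Category.assoc]; rfl) with ht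
      have ht1 : t ≫ (f ≫ g).fiberι ((f ≫ g) x) = f.fiberι (f x) := H1.flip.lift_fst _ _ _
      have h5 := isPullback_morphismRestrict t V
      have h6 : Smooth ((t ⁻¹ᵁ V).ι ≫ f.fiberToSpecResidueField (f x)) :=
        MorphismProperty.of_isPullback (h5.paste_vert H3) hV
      refine (Groth.Agent.UnramA.Locus.smooth_nhd_iff _ _).mp ⟨t ⁻¹ᵁ V, ?_, h6⟩
      change t (f.asFiber x) ∈ V
      have h7 : t (f.asFiber x) = (f ≫ g).asFiber x := by
        apply ((f ≫ g).fiberι ((f ≫ g) x)).injective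
        rw [← Scheme.Hom.comp_apply, ht1]
        exact (Scheme.Hom.fiberι_asFiber f x).trans (Scheme.Hom.fiberι_asFiber (f ≫ g) x).symm
      rw [h7]
      exact hxV
    exact h2

theorem etale_iff (g : Y ⟶ S) (h : X ⟶ S)
    [LocallyOfFinitePresentation g] [LocallyOfFinitePresentation h] (f : X ⟶ Y) (w : f ≫ g = h)
    (x : ↥X) (hflat : (h.stalkMap x).hom.Flat)
    (x' : ↥(h.fiber (h x))) (hx' : (h.fiberι (h x)) x' = x) :
    (∃ U : X.Opens, x ∈ U ∧ Etale (U.ι ≫ f)) ↔
      ∃ V : (h.fiber (h x)).Opens, x' ∈ V ∧ Etale (V.ι ≫ CohIII.fiberMapOver f h g w (h x)) := by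
  rw [Groth.Agent.UnramA.Locus.etale_nhd_iff_unramified_and_smooth,
    Groth.Agent.UnramA.Locus.etale_nhd_iff_unramified_and_smooth,
    unramified_iff g h f w x x' hx', smooth_iff g h f w x hflat x' hx']

end Groth.Agent.Unram17.K135.FibreMapAt
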