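import Groth.Agent.Unram17.K135.QRegSmooth
import Groth.Agent.S8657
import Groth.Agent.AlgSp.K637.RegComp
import Groth.Agent.Sga4h.H915.SmoothPart

/-!
# Quasi-regular sections and diagonals: the equivalences with smoothness
-/

set_option autoImplicit false
universe u

open CategoryTheory CategoryTheory.Limits AlgebraicGeometry IsLocalRing

namespace Groth.Agent.Unram17.K135.QRegConv

open RegImm K637.RegChart K473.RegImmCalc

theorem isPullback_of_mono {C : Type*} [Category C] {A Z X : C} (ψ : A ⟶ Z) (i : Z ⟶ X) [Mono i] :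
    IsPullback ψ (𝟙 A) i (ψ ≫ i) :=
  ⟨⟨by simp⟩, ⟨PullbackCone.IsLimit.mk _ (fun s => s.snd) (fun s => by
    rw [← cancel_mono i, Category.assoc]
    exact s.condition.symm) (fun s => Category.comp_id _) (fun s m _ h2 => by
      rw [← h2]
      exact (Category.comp_id _).symm)⟩⟩

/-- Open immersions are Koszul-regular immersions. -/
theorem isRegularImmersion_koszul_of_isOpenImmersion {Z X : Scheme.{u}} (i : Z ⟶ X) [IsOpenImmersion i] :
    IsRegularImmersion .koszul i := by
  refine ⟨inferInstance, fun z => ?_⟩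
  rw [isRegularImmersionAt_iff (by decide)]
  obtain ⟨U, hU, hzU, -⟩ := exists_isAffineOpen_mem_and_subset (U := (⊤ : Z.Opens)) (x := z) trivial
  have hnt : Nontrivial Γ(Z, U) := by
    have : Nonempty U := ⟨⟨z, hzU⟩⟩
    infer_instance
  refine ⟨Γ(Z, U), inferInstance, [], hU.fromSpec ≫ i, inferInstance, ?_, ?_, ?_⟩
  · have : z ∈ Set.range hU.fromSpec := by rwa [hU.range_fromSpec]
    obtain ⟨p, hp⟩ := this
    exact ⟨p, by rw [Scheme.Hom.comp_apply, hp]⟩
  · exact K473.SeqFlat.koszul_of_regular (RingTheory.Sequence.IsRegular.nil _ _)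
  · rw [Ideal.ofList_nil]
    have hiso : IsIso (CommRingCat.ofHom (Ideal.Quotient.mk (⊥ : Ideal Γ(Z, U)))) :=
      (RingEquiv.toCommRingCatIso (RingEquiv.quotientBot Γ(Z, U)).symm).isIso_hom
    have h1 : IsPullback hU.fromSpec (𝟙 _) i (hU.fromSpec ≫ i) := isPullback_of_mono _ _
    refine ⟨Spec.map (CommRingCat.ofHom (Ideal.Quotient.mk (⊥ : Ideal Γ(Z, U)))) ≫ hU.fromSpec, ?_⟩
    have h2 : IsPullback (Spec.map (CommRingCat.ofHom (Ideal.Quotient.mk (⊥ : Ideal Γ(Z, U)))))
        (Spec.map (CommRingCat.ofHom (Ideal.Quotient.mk (⊥ : Ideal Γ(Z, U))))) (𝟙 _) (𝟙 _) :=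
      IsPullback.of_horiz_isIso ⟨rfl⟩
    have h3 := h2.paste_horiz h1
    rwa [Category.id_comp] at h3

/-- Sections of smooth morphisms are Koszul-regular immersions. -/
theorem isRegularImmersion_koszul_of_section {V P : Scheme.{u}} (g : P ⟶ V) [Smooth g] (j : V ⟶ P)
    (h : j ≫ g = 𝟙 V) : IsRegularImmersion .koszul j := by
  have h1 : IsImmersion (j ≫ g) := by rw [h]; infer_instance
  have hj : IsImmersion j := IsImmersion.of_comp j g
  exact (Groth.Agent.S8657.result (𝟙 V) j g h).mp (isRegularImmersion_koszul_of_isOpenImmersion _)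

/-- Smoothness along a section implies quasi-regularity near the point. -/
theorem isRegularImmersion_of_smoothLocus {X S : Scheme.{u}} (f : X ⟶ S) [LocallyOfFinitePresentation f]
    (u : S ⟶ X) (hu : u ≫ f = 𝟙 S) (V : S.Opens) (hV : V ≤ u ⁻¹ᵁ f.smoothLocus) :
    IsRegularImmersion .quasi (V.ι ≫ u) := by
  let L := f.smoothLocus
  have hL : Smooth (L.ι ≫ f) := Groth.Agent.Sga4h.H915.SmoothPart.smooth_smoothLocus f
  let l : (V : Scheme.{u}) ⟶ (L : Scheme.{u}) := IsOpenImmersion.lift L.ι (V.ι ≫ u) (by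
    rintro _ ⟨t, rfl⟩
    rw [Scheme.Opens.range_ι, Scheme.Hom.comp_apply]
    exact hV t.2)
  have hl : l ≫ L.ι = V.ι ≫ u := IsOpenImmersion.lift_fac _ _ _
  let j : (V : Scheme.{u}) ⟶ pullback (L.ι ≫ f) V.ι := pullback.lift l (𝟙 _) (by
    rw [← Category.assoc, hl, Category.assoc, hu, Category.comp_id, Category.id_comp])
  have h1 := isRegularImmersion_koszul_of_section (pullback.snd (L.ι ≫ f) V.ι) j (pullback.lift_snd _ _ _)
  have h2 := isRegularImmersion_koszul_of_isOpenImmersion (pullback.fst (L.ι ≫ f) V.ι ≫ L.ι)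
  have h3 := K637.RegComp.isRegularImmersion_comp_koszul h1 h2
  rw [← Category.assoc, pullback.lift_fst, hl] at h3
  exact isRegularImmersion_mono_kind (fun rs h => quasi_of_seq _ h) h3

/-- Restricting a quasi-regular immersion at a point to an open of the source. -/
theorem isRegularImmersionAt_of_open {Z X : Scheme.{u}} {k : Kind} (hk : k ≠ .regular) (i : Z ⟶ X) [IsImmersion i]
    (V : Z.Opens) (z : V) (h : IsRegularImmersionAt k (V.ι ≫ i) z) : IsRegularImmersionAt k i (V.ι z) := by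
  -- an open of `X` cutting out `V`
  obtain ⟨N, hN⟩ : ∃ N : X.Opens, i ⁻¹ᵁ N = V := by
    obtain ⟨N, hN, hN'⟩ := i.isEmbedding.isInducing.isOpen_iff.mp V.2
    exact ⟨⟨N, hN⟩, TopologicalSpace.Opens.ext hN'⟩
  have hzN : (V.ι ≫ i) z ∈ N := by
    rw [Scheme.Hom.comp_apply]
    change V.ι z ∈ i ⁻¹ᵁ N
    rw [hN]
    exact z.2
  obtain ⟨⟨U, hU⟩, hzU, hUN, hc, rs, hrs, hker⟩ := At.exists_le h N hzN
  rw [isRegularImmersionAt_iff hk]
  obtain ⟨I, hI⟩ := exists_of_isAffineOpen hU hc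
  have hI' : I = Ideal.ofList rs := (ker_app hU hI).symm.trans hker
  subst hI'
  refine ⟨Γ(X, U), inferInstance, rs, IsAffineOpen.fromSpec hU, inferInstance, ?_, hrs, ?_⟩
  · rw [IsAffineOpen.range_fromSpec, ← Scheme.Hom.comp_apply]
    exact hzU
  · obtain ⟨χ, hχ⟩ := hI
    have hfac : ∀ s : PullbackCone i (IsAffineOpen.fromSpec hU), Set.range s.fst ⊆ Set.range V.ι := by
      rintro s _ ⟨w, rfl⟩
      rw [Scheme.Opens.range_ι]
      have h1 : i (s.fst w) ∈ U := by
        rw [← Scheme.Hom.comp_apply, s.condition, Scheme.Hom.comp_apply]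
        have : IsAffineOpen.fromSpec hU (s.snd w) ∈ Set.range (IsAffineOpen.fromSpec hU) := ⟨_, rfl⟩
        rwa [IsAffineOpen.range_fromSpec] at this
      have h2 : s.fst w ∈ i ⁻¹ᵁ N := hUN h1
      rw [hN] at h2
      exact h2
    refine ⟨χ ≫ V.ι, ⟨⟨by rw [Category.assoc]; exact hχ.w⟩, ⟨PullbackCone.IsLimit.mk _
      (fun s => hχ.lift (IsOpenImmersion.lift V.ι s.fst (hfac s)) s.snd (by
        rw [← Category.assoc, IsOpenImmersion.lift_fac, s.condition])) ?_ ?_ ?_⟩⟩⟩
    · intro s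
      rw [← Category.assoc, hχ.lift_fst, IsOpenImmersion.lift_fac]
    · intro s
      exact hχ.lift_snd _ _ _
    · intro s m h1 h2
      apply hχ.hom_ext
      · rw [hχ.lift_fst, ← cancel_mono V.ι, IsOpenImmersion.lift_fac, Category.assoc]
        exact h1
      · rw [hχ.lift_snd]
        exact h2

/-- S4995 -/
theorem section_iff {X S : Scheme.{u}} (f : X ⟶ S) [LocallyOfFinitePresentation f] (u : S ⟶ X) (hu : u ≫ f = 𝟙 S)
    (s : S) : u s ∈ f.smoothLocus ↔ ∃ V : S.Opens, s ∈ V ∧ IsRegularImmersion .quasi (V.ι ≫ u) := by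
  constructor
  · intro h
    exact ⟨u ⁻¹ᵁ f.smoothLocus, h, isRegularImmersion_of_smoothLocus f u hu _ le_rfl⟩
  · rintro ⟨V, hs, hV⟩
    exact QRegSmooth.mem_smoothLocus_of_isRegularImmersionAt f u hu V s hs (hV.2 _)

/-- a section is a quasi-regular immersion iff it goes to the smooth locus -/
theorem isRegularImmersion_section_iff {X S : Scheme.{u}} (f : X ⟶ S) [LocallyOfFinitePresentation f] (u : S ⟶ X)
    (hu : u ≫ f = 𝟙 S) : IsRegularImmersion .quasi u ↔ ∀ s, u s ∈ f.smoothLocus := by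
  have h1 : IsImmersion (u ≫ f) := by rw [hu]; infer_instance
  have h2 : IsImmersion u := IsImmersion.of_comp u f
  constructor
  · intro h s
    have h3 : IsRegularImmersion .quasi ((⊤ : S.Opens).ι ≫ u) := by
      have hiso : IsIso (⊤ : S.Opens).ι := S.topIso.isIso_hom
      have h4 : IsPullback (⊤ : S.Opens).ι ((⊤ : S.Opens).ι ≫ u) u (𝟙 X) :=
        IsPullback.of_horiz_isIso ⟨by simp⟩
      exact isRegularImmersion_of_isPullback h4 h
    exact (section_iff f u hu s).mpr ⟨⊤, trivial, h3⟩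
  · intro h
    refine ⟨h2, fun s => ?_⟩
    have h3 := isRegularImmersion_of_smoothLocus f u hu (u ⁻¹ᵁ f.smoothLocus) le_rfl
    exact isRegularImmersionAt_of_open (by decide) u (u ⁻¹ᵁ f.smoothLocus) ⟨s, h s⟩ (h3.2 _)

/-- S4994 -/
theorem diagonal_iff {X Y : Scheme.{u}} (f : X ⟶ Y) [LocallyOfFinitePresentation f] :
    IsRegularImmersion .quasi (pullback.diagonal f) ↔
      ∀ x : X, pullback.diagonal f x ∈ (pullback.snd f f).smoothLocus :=
  isRegularImmersion_section_iff (pullback.snd f f) (pullback.diagonal f) (by simp)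

end Groth.Agent.Unram17.K135.QRegConv
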