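import Groth.Agent.Unram17.K135.SecLocus
import Groth.Agent.Unram17.K135.QRegConv
import Groth.Agent.Unram17.K135.NhdStage
import Groth.Agent.Sga3.H806.SmoothDescend

/-!
# Differential smoothness descends to a stage of a cofiltered limit
-/

set_option autoImplicit false
set_option backward.isDefEq.respectTransparency false
universe u

open CategoryTheory CategoryTheory.Limits AlgebraicGeometry

namespace Groth.Agent.Unram17.K135.DiagStage

open Groth.Agent.Smoothlim.LimBase SecLocus RegImm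

/-- quasi-regularity of the diagonal of a base change, in terms of the locus in the base -/
theorem diagonal_iff_W {X₀ S₀ : Scheme.{u}} (f₀ : X₀ ⟶ S₀) [LocallyOfFinitePresentation f₀]
    (hσ : pullback.diagonal f₀ ≫ pullback.snd f₀ f₀ = 𝟙 X₀)
    {X S : Scheme.{u}} {q : X ⟶ X₀} {f : X ⟶ S} {g : S ⟶ S₀} (h : IsPullback q f f₀ g) :
    IsRegularImmersion .quasi (pullback.diagonal f) ↔ W (pullback.snd f₀ f₀) (pullback.diagonal f₀) hσ q = ⊤ := by
  have hf : LocallyOfFinitePresentation f := MorphismProperty.of_isPullback h inferInstance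
  rw [QRegConv.diagonal_iff, eq_top_iff]
  constructor
  · intro H x _
    exact (mem_W_iff _ _ hσ (isPullback_self h) (pullback.diagonal f) (by simp) (diagonal_selfMap h) x).mpr (H x)
  · intro H x
    exact (mem_W_iff _ _ hσ (isPullback_self h) (pullback.diagonal f) (by simp) (diagonal_selfMap h) x).mp
      (H (show x ∈ (⊤ : X.Opens) from trivial))

variable {I : Type u} [SmallCategory I] [IsCofiltered I]
    (D : I ⥤ Scheme.{u}) (c : Limits.Cone D) (hc : Limits.IsLimit c)
    [∀ (i j : I) (f : i ⟶ j), IsAffineHom (D.map f)] (i₀ : I)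
    {X₀ : Scheme.{u}} (f₀ : X₀ ⟶ D.obj i₀) [LocallyOfFinitePresentation f₀]
    {X : Scheme.{u}} (f : X ⟶ c.pt) (qX : X ⟶ X₀) (hX : IsPullback qX f f₀ (c.π.app i₀))

include hc in
/-- pointwise version -/
theorem exists_stage_mem (hσ : pullback.diagonal f₀ ≫ pullback.snd f₀ f₀ = 𝟙 X₀) (x : X)
    (hx : x ∈ W (pullback.snd f₀ f₀) (pullback.diagonal f₀) hσ qX) :
    ∃ φ : Over i₀, (pbCone i₀ f₀ c qX f hX.toCommSq).π.app φ x ∈
      W (pullback.snd f₀ f₀) (pullback.diagonal f₀) hσ (pullback.fst f₀ (D.map φ.hom)) := by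
  have hf : LocallyOfFinitePresentation f := MorphismProperty.of_isPullback hX inferInstance
  have h1 := (mem_W_iff _ _ hσ (isPullback_self hX) (pullback.diagonal f) (by simp) (diagonal_selfMap hX) x).mp hx
  have h2 : ∃ U : (pullback f f).Opens, pullback.diagonal f x ∈ U ∧ Smooth (U.ι ≫ pullback.snd f f) :=
    ⟨(pullback.snd f f).smoothLocus, h1, Groth.Agent.Sga4h.H915.SmoothPart.smooth_smoothLocus _⟩
  obtain ⟨j, φ, Xj, Yj, fj, gj, pY, pX, rX, h3, h4, h5, h6, V, hV, hsm⟩ :=
    (Groth.Agent.Unram17.K135.NhdStage.nhd_iff (P := @Smooth)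
      (fun i _ ↦ inferInstance) Groth.Agent.Sga3.H806.SmoothDescend.descendsAffine_smooth D c hc i₀
      (pullback.snd f₀ f₀) f₀ (pullback.snd f f) f qX (selfMap hX) hX (isPullback_self hX)
      (pullback.diagonal f x)).mp h2
  have hfj : LocallyOfFinitePresentation fj := MorphismProperty.of_isPullback h4 inferInstance
  refine ⟨Over.mk φ, ?_⟩
  -- the map from the limit to the stage `Yj`
  let rY : X ⟶ Yj := h3.lift qX (f ≫ c.π.app j) (by rw [hX.w, Category.assoc, c.w])
  have hrY1 : rY ≫ pY = qX := h3.lift_fst _ _ _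
  have hrY2 : rY ≫ gj = f ≫ c.π.app j := h3.lift_snd _ _ _
  let σ' : Yj ⟶ Xj := h4.lift (pY ≫ pullback.diagonal f₀) (𝟙 Yj) (by
    rw [Category.assoc, hσ, Category.comp_id, Category.id_comp])
  have hσ1 : σ' ≫ pX = pY ≫ pullback.diagonal f₀ := h4.lift_fst _ _ _
  have hσ2 : σ' ≫ fj = 𝟙 Yj := h4.lift_snd _ _ _
  have hcomm : rY ≫ σ' = pullback.diagonal f ≫ rX := by
    apply h4.hom_ext
    · rw [Category.assoc, hσ1, ← Category.assoc, hrY1, Category.assoc, h5, diagonal_selfMap]
    · rw [Category.assoc, hσ2, Category.comp_id]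
      apply h3.hom_ext
      · rw [hrY1, Category.assoc, Category.assoc, ← h4.w, reassoc_of% h5, selfMap, pullback.lift_snd]
        simp
      · rw [hrY2, Category.assoc, Category.assoc, h6]
        simp
  have h7 : rY x ∈ W (pullback.snd f₀ f₀) (pullback.diagonal f₀) hσ pY := by
    rw [mem_W_iff _ _ hσ h4 σ' hσ2 hσ1]
    rw [← Scheme.Hom.comp_apply, hcomm, Scheme.Hom.comp_apply]
    have h8 : V ≤ fj.smoothLocus := by
      intro y hy
      have h9 : (⟨y, hy⟩ : V) ∈ (V.ι ≫ fj).smoothLocus := by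
        rw [Scheme.Hom.smoothLocus_eq_top]
        trivial
      rw [← Scheme.Hom.preimage_smoothLocus_eq] at h9
      exact h9
    exact h8 hV
  let e : pullback f₀ (D.map φ) ⟶ Yj := h3.lift (pullback.fst _ _) (pullback.snd _ _) pullback.condition
  have he1 : e ≫ pY = pullback.fst f₀ (D.map φ) := h3.lift_fst _ _ _
  have he2 : e ≫ gj = pullback.snd f₀ (D.map φ) := h3.lift_snd _ _ _
  apply preimage_W_le _ _ hσ e pY _ he1
  let s : X ⟶ pullback f₀ (D.map φ) := (pbCone i₀ f₀ c qX f hX.toCommSq).π.app (Over.mk φ)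
  change e (s x) ∈ W (pullback.snd f₀ f₀) (pullback.diagonal f₀) hσ pY
  rw [← Scheme.Hom.comp_apply]
  have h10 : s ≫ e = rY := by
    apply h3.hom_ext
    · rw [Category.assoc, he1, hrY1]
      simp [s]
    · rw [Category.assoc, he2, hrY2]
      simp [s]
  rw [h10]
  exact h7

include hc hX in
theorem main [CompactSpace X₀] :
    IsRegularImmersion .quasi (pullback.diagonal f) ↔
      ∃ (j : I) (φ : j ⟶ i₀) (Xj : Scheme.{u}) (fj : Xj ⟶ D.obj j) (pX : Xj ⟶ X₀),
        IsPullback pX fj f₀ (D.map φ) ∧ IsRegularImmersion .quasi (pullback.diagonal fj) := by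
  have hσ : pullback.diagonal f₀ ≫ pullback.snd f₀ f₀ = 𝟙 X₀ := pullback.diagonal_snd _
  rw [diagonal_iff_W f₀ hσ hX]
  constructor
  · intro H
    let E : Over i₀ ⥤ Scheme.{u} := pbDiag D i₀ f₀
    let cE : Cone E := pbCone i₀ f₀ c qX f hX.toCommSq
    have hcE : IsLimit cE := isLimitPbCone i₀ f₀ c hc qX f hX
    have hE' : ∀ {φ ψ : Over i₀} (h : φ ⟶ ψ), IsAffineHom (E.map h) :=
      fun h ↦ isAffineHom_pbDiag_map D i₀ f₀ h
    let w : (φ : Over i₀) → (E.obj φ).Opens := fun φ =>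
      W (pullback.snd f₀ f₀) (pullback.diagonal f₀) hσ (pullback.fst f₀ (D.map φ.hom))
    have hw : ∀ {φ ψ : Over i₀} (m : ψ ⟶ φ), E.map m ⁻¹ᵁ w φ ≤ w ψ := fun {φ ψ} m =>
      preimage_W_le _ _ hσ (E.map m) _ _ (by simp [E])
    have hXc : CompactSpace X := by
      have : IsAffineHom (c.π.app i₀) := isAffineHom_π_app D c hc i₀
      have : IsAffineHom qX := MorphismProperty.of_isPullback hX.flip this
      exact QuasiCompact.compactSpace_of_compactSpace qX
    have hne : Nonempty (Over i₀) := ⟨Over.mk (𝟙 i₀)⟩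
    have hdir : Directed (· ≤ ·) fun φ : Over i₀ => ((cE.π.app φ ⁻¹ᵁ w φ : X.Opens) : Set X) := by
      intro φ ψ
      let χ := IsCofiltered.min φ ψ
      refine ⟨χ, ?_, ?_⟩
      · intro x hx
        apply hw (IsCofiltered.minToLeft φ ψ)
        change E.map (IsCofiltered.minToLeft φ ψ) (cE.π.app χ x) ∈ w φ
        rw [← Scheme.Hom.comp_apply, cE.w]
        exact hx
      · intro x hx
        apply hw (IsCofiltered.minToRight φ ψ)
        change E.map (IsCofiltered.minToRight φ ψ) (cE.π.app χ x) ∈ w ψ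
        rw [← Scheme.Hom.comp_apply, cE.w]
        exact hx
    obtain ⟨φ, hφ⟩ := (isCompact_univ (X := X)).elim_directed_cover
      (fun φ : Over i₀ => ((cE.π.app φ ⁻¹ᵁ w φ : X.Opens) : Set X)) (fun φ => (cE.π.app φ ⁻¹ᵁ w φ).2)
      (fun x _ => by
        obtain ⟨φ, hφ⟩ := exists_stage_mem D c hc i₀ f₀ f qX hX hσ x (H ▸ trivial)
        exact Set.mem_iUnion.mpr ⟨φ, hφ⟩) hdir
    have hEc : CompactSpace (E.obj φ) := by
      have : IsAffineHom (pullback.fst f₀ (D.map φ.hom)) := MorphismProperty.pullback_fst _ _ inferInstance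
      exact QuasiCompact.compactSpace_of_compactSpace (pullback.fst f₀ (D.map φ.hom))
    obtain ⟨ψ, m, hm⟩ := exists_map_preimage_le_map_preimage E cE hcE (i := φ) (U := ⊤) (V := w φ)
      isCompact_univ (fun x _ => hφ (Set.mem_univ x))
    refine ⟨ψ.left, ψ.hom, pullback f₀ (D.map ψ.hom), pullback.snd _ _, pullback.fst _ _,
      IsPullback.of_hasPullback _ _, ?_⟩
    rw [diagonal_iff_W f₀ hσ (IsPullback.of_hasPullback f₀ (D.map ψ.hom)), eq_top_iff]
    exact le_trans hm (hw m)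
  · rintro ⟨j, φ, Xj, fj, pX, h1, h2⟩
    rw [diagonal_iff_W f₀ hσ h1] at h2
    let r : X ⟶ Xj := h1.lift qX (f ≫ c.π.app j) (by rw [hX.w, Category.assoc, c.w])
    have h3 := preimage_W_le _ _ hσ r pX qX (h1.lift_fst _ _ _)
    rw [h2] at h3
    exact top_le_iff.mp h3

end Groth.Agent.Unram17.K135.DiagStage
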