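import Groth.Agent.Unram17.K135.FibFlat
import Groth.Agent.Ega43.NoethRed
import Groth.Agent.Ega43.ConsCrit
import Groth.Agent.Ega4fib.H144.SrcLocus
import Groth.Agent.Ega1.TildePullback
import Groth.Agent.S9827
import Groth.Agent.S4726
import Groth.Agent.Pic13.H504.GenFlat
import Groth.Agent.Flat2G.FlatLocus
import Groth.Agent.FormalA.PullbackQC

/-!
# Constructibility of the locus of fibrewise flatness
-/

set_option autoImplicit false
universe u

open CategoryTheory CategoryTheory.Limits AlgebraicGeometry Topology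

namespace Groth.Agent.Unram17.K135.FibFlat

open Groth.Agent.Ega43.Locus FlatMod

/-- Noetherian models of a finitely presented module on a chain of finitely presented ring maps. -/
theorem exists_model {A D C : CommRingCat.{u}} (φ : A ⟶ D) (ψ : D ⟶ C)
    (hφ : φ.hom.FinitePresentation) (hψ : ψ.hom.FinitePresentation) (M : ModuleCat.{u} C)
    (hM : Module.FinitePresentation C M) :
    ∃ (A₀ D₀ C₀ : CommRingCat.{u}) (φ₀ : A₀ ⟶ D₀) (ψ₀ : D₀ ⟶ C₀) (a : A₀ ⟶ A) (d : D₀ ⟶ D)
      (c : C₀ ⟶ C) (M₀ : ModuleCat.{u} C₀), IsNoetherianRing A₀ ∧ φ₀.hom.FinitePresentation ∧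
      ψ₀.hom.FinitePresentation ∧ IsPushout φ₀ a d φ ∧ IsPushout ψ₀ d c ψ ∧ Module.FinitePresentation C₀ M₀ ∧
        Nonempty ((Scheme.Modules.pullback (Spec.map c)).obj (tilde M₀) ≅ tilde M) := by
  classical
  algebraize [φ.hom, ψ.hom]
  obtain ⟨n, m, p, g, hp, hpg⟩ := Module.FinitePresentation.exists_fin' C M
  let s₀ : Set C := Set.range (fun jk : Fin m × Fin n => g (Pi.single jk.1 1) jk.2)
  have hs₀ : s₀.Finite := Set.finite_range _
  obtain ⟨s, hs, Hs⟩ := Ega43.NoethRed.exists_model (A := D) (D := C) hs₀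
  obtain ⟨t, ht, Ht⟩ := Ega43.NoethRed.exists_model (A := A) (D := D) hs
  obtain ⟨A₀, _, _, h1, h2⟩ := Ega43.NoethRed.exists_noetherian ht
  obtain ⟨D₀, _, _, _, h3, h4, h5⟩ := Ht A₀ h2
  obtain ⟨C₀, _, _, _, h6, h7, h8⟩ := Hs D₀ h4
  have h9 : ∀ jk : Fin m × Fin n, ∃ c : C₀, algebraMap C₀ C c = g (Pi.single jk.1 1) jk.2 :=
    fun jk => h7 ⟨jk, rfl⟩
  choose e he using h9
  obtain ⟨M₀, _, _, h10, ⟨h11⟩⟩ := S4726.descend_coker (R₀ := C₀) M p g hp hpg (fun j k => e (j, k))
    (fun j k => he (j, k))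
  refine ⟨.of A₀, .of D₀, .of C₀, CommRingCat.ofHom (algebraMap A₀ D₀), CommRingCat.ofHom (algebraMap D₀ C₀),
    CommRingCat.ofHom (algebraMap A₀ A), CommRingCat.ofHom (algebraMap D₀ D), CommRingCat.ofHom (algebraMap C₀ C),
    ModuleCat.of C₀ M₀, h1, RingHom.finitePresentation_algebraMap.mpr h3,
    RingHom.finitePresentation_algebraMap.mpr h6, h5, h8, h10, ?_⟩
  exact ⟨Ega1.TildePullback.pullbackTildeIso C₀ C M₀ ≪≫ (tilde.functor C).mapIso h11.symm.toModuleIso⟩

theorem isConstructible_of_isOpen {X : Type*} [TopologicalSpace X]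
    [TopologicalSpace.NoetherianSpace X] {U : Set X} (hU : IsOpen U) :
    Topology.IsConstructible U :=
  IsRetrocompact.isConstructible hU
    (fun _ _ _ => TopologicalSpace.NoetherianSpace.isCompact _)

/-- Where `F` is flat over the base, fibrewise flatness is flatness. -/
theorem E_iff_isFlatOverAt {X Y S : Scheme.{u}} (f : X ⟶ Y) (g : Y ⟶ S) [LocallyOfFinitePresentation (f ≫ g)]
    [LocallyOfFiniteType g] (F : X.Modules) (hq : Coh.IsQCoh F) (hfp : CohB1.IsFP F) (x : X)
    (hx : IsFlatOverAt (f ≫ g) F x) : E f g F x ↔ IsFlatOverAt f F x := by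
  constructor
  · intro h
    have h1 := S1441.isFlatOverAt_of_fiber f g F hq hfp ((f ≫ g) x) ((f ≫ g).asFiber x)
    rw [Scheme.Hom.fiberι_asFiber] at h1
    exact h1 hx (h _ _ _ _ _ _ _ _ (IsPullback.of_hasPullback g _)
      (S1441.isPullback_fiberMap_fiberι f g _).flip _ (Scheme.Hom.fiberι_asFiber _ _))
  · intro h K _ k Xs Ys ιX ιY fs pY hY hX x' hx'
    subst hx'
    exact Fdesc.FlatBC.isFlatOverAt_pullback hX _ x' h

theorem lofp_of_finiteType {A B : CommRingCat.{u}} [IsNoetherianRing A] (φ : A ⟶ B) (hφ : φ.hom.FiniteType) :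
    LocallyOfFinitePresentation (Spec.map φ) := by
  rw [HasRingHomProperty.Spec_iff (P := @LocallyOfFinitePresentation)]
  exact RingHom.FinitePresentation.of_finiteType.mp hφ

open Groth.Agent.Ega4fib.H144.SrcLocus (exists_point_of_isPullback) in
/-- The Noetherian affine case. -/
theorem isConstructible_noeth {A D C : CommRingCat.{u}} [IsNoetherianRing A] (φ : A ⟶ D) (ψ : D ⟶ C)
    (hφ : φ.hom.FiniteType) (hψ : ψ.hom.FiniteType) (F : (Spec C).Modules) (hF : Coh.IsQCoh F) (hfp : CohB1.IsFP F) :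
    IsConstructible {x : ↥(Spec C) | E (Spec.map ψ) (Spec.map φ) F x} := by
  have hD : IsNoetherianRing D := by
    algebraize [φ.hom]
    exact Algebra.FiniteType.isNoetherianRing A D
  have hC : IsNoetherianRing C := by
    algebraize [ψ.hom]
    exact Algebra.FiniteType.isNoetherianRing D C
  refine Ega43.ConsCrit.isConstructible_of_forall_exists (X := PrimeSpectrum C) _ (fun q => ?_)
  let p : Ideal A := ((Spec.map (φ ≫ ψ)) q).asIdeal
  have hp : p.IsPrime := ((Spec.map (φ ≫ ψ)) q).2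
  let B : CommRingCat.{u} := .of (A ⧸ p)
  let π : A ⟶ B := CommRingCat.ofHom (Ideal.Quotient.mk p)
  have hπ : Function.Surjective π.hom := Ideal.Quotient.mk_surjective
  have hBd : IsDomain B := Ideal.Quotient.isDomain p
  have hB : IsNoetherianRing B := inferInstanceAs (IsNoetherianRing (A ⧸ p))
  let iD : D ⟶ pushout φ π := pushout.inl φ π
  let φ' : B ⟶ pushout φ π := pushout.inr φ π
  let iC : C ⟶ pushout ψ iD := pushout.inl ψ iD
  let ψ' : pushout φ π ⟶ pushout ψ iD := pushout.inr ψ iD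
  have h1 : IsPullback (Spec.map iD) (Spec.map φ') (Spec.map φ) (Spec.map π) := isPullback_SpecMap_pushout φ π
  have h2 : IsPullback (Spec.map iC) (Spec.map ψ') (Spec.map ψ) (Spec.map iD) := isPullback_SpecMap_pushout ψ iD
  have h3 : IsPullback (Spec.map iC) (Spec.map ψ' ≫ Spec.map φ') (Spec.map ψ ≫ Spec.map φ) (Spec.map π) :=
    h2.paste_vert h1
  have lφ := lofp_of_finiteType φ hφ
  have lψ := lofp_of_finiteType ψ hψ
  have lπ := lofp_of_finiteType π (RingHom.FiniteType.of_surjective _ hπ)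
  have lφ' : LocallyOfFinitePresentation (Spec.map φ') :=
    MorphismProperty.of_isPullback (P := @LocallyOfFinitePresentation) h1 lφ
  have lψ' : LocallyOfFinitePresentation (Spec.map ψ') :=
    MorphismProperty.of_isPullback (P := @LocallyOfFinitePresentation) h2 lψ
  have liD : LocallyOfFinitePresentation (Spec.map iD) :=
    MorphismProperty.of_isPullback (P := @LocallyOfFinitePresentation) h1.flip lπ
  have liC : LocallyOfFinitePresentation (Spec.map iC) :=
    MorphismProperty.of_isPullback (P := @LocallyOfFinitePresentation) h2.flip liD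
  have hbot : (Spec.map π) (⊥ : PrimeSpectrum B) = (Spec.map ψ ≫ Spec.map φ) q := by
    rw [← Spec.map_comp]
    apply PrimeSpectrum.ext
    change Ideal.comap (Ideal.Quotient.mk p) ⊥ = p
    rw [← RingHom.ker_eq_comap_bot, Ideal.mk_ker]
  obtain ⟨q', hq', hq''⟩ := exists_point_of_isPullback h3 q (⊥ : PrimeSpectrum B) hbot.symm
  let F' := (Scheme.Modules.pullback (Spec.map iC)).obj F
  have hF' : Coh.IsQCoh F' := FormalA.PullbackQC.isQCoh_pullback _ _ hF
  have hfp' : CohB1.IsFP F' := FormalA.PullbackQC.isFP_pullback _ _ hfp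
  have hcoh : Coh.IsCoh F' := ⟨hF', inferInstanceAs (SheafOfModules.IsFiniteType (R := (Spec (pushout ψ iD)).ringCatSheaf) F')⟩
  obtain ⟨a, ha, H⟩ := Pic13.H504.GenFlat.exists_isFlatOverAt (Spec.map ψ' ≫ Spec.map φ') F' hcoh
  have hN : IsNoetherianRing ↑(pushout ψ iD) := by
    have h4 : iC.hom.FinitePresentation := (HasRingHomProperty.Spec_iff (P := @LocallyOfFinitePresentation)).mp liC
    algebraize [iC.hom]
    have : Algebra.FiniteType C ↑(pushout ψ iD) := RingHom.FiniteType.of_finitePresentation h4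
    exact Algebra.FiniteType.isNoetherianRing C _
  let V : Set ↥(Spec (pushout ψ iD)) := (Spec.map ψ' ≫ Spec.map φ') ⁻¹' (PrimeSpectrum.basicOpen a : Set (PrimeSpectrum B))
  have hVo : IsOpen V := (PrimeSpectrum.basicOpen a).2.preimage (Spec.map ψ' ≫ Spec.map φ').continuous
  have hV : IsConstructible V := isConstructible_of_isOpen hVo
  have hqV : q' ∈ V := by
    change (Spec.map ψ' ≫ Spec.map φ') q' ∈ (PrimeSpectrum.basicOpen a : Set (PrimeSpectrum B))
    rw [hq'']
    exact ha
  have hVE : IsConstructible (V ∩ {x : ↥(Spec (pushout ψ iD)) | E (Spec.map ψ') (Spec.map φ') F' x}) := by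
    have : V ∩ {x : ↥(Spec (pushout ψ iD)) | E (Spec.map ψ') (Spec.map φ') F' x} =
        V ∩ {x : ↥(Spec (pushout ψ iD)) | IsFlatOverAt (Spec.map ψ') F' x} := by
      ext x
      refine and_congr_right fun hx => ?_
      exact E_iff_isFlatOverAt _ _ F' hF' hfp' x (H x hx)
    rw [this]
    exact hV.inter (isConstructible_of_isOpen (Flat2G.FlatLocus.isOpen_flatLocus _ _ hF' hfp'))
  refine ⟨(Spec.map iC) '' V, (Spec.map iC).isConstructible_image hV, ⟨q', hqV, hq'⟩, ?_⟩
  have h4 : (Spec.map iC) '' V ∩ {x : ↥(Spec C) | E (Spec.map ψ) (Spec.map φ) F x} =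
      (Spec.map iC) '' (V ∩ {x | E (Spec.map ψ') (Spec.map φ') F' x}) := by
    rw [← Set.image_inter_preimage]
    congr 2
    ext x
    exact (E_baseChange h1 h2 F x).symm
  change IsConstructible ((Spec.map iC) '' V ∩ {x : ↥(Spec C) | E (Spec.map ψ) (Spec.map φ) F x})
  rw [h4]
  exact (Spec.map iC).isConstructible_image hVE

/-- The affine case. -/
theorem isConstructible_affine {A D C : CommRingCat.{u}} (φ : A ⟶ D) (ψ : D ⟶ C)
    (hφ : φ.hom.FinitePresentation) (hψ : ψ.hom.FinitePresentation) (F : (Spec C).Modules) (hF : Coh.IsQCoh F)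
    (hfp : CohB1.IsFP F) :
    IsConstructible {x : ↥(Spec C) | E (Spec.map ψ) (Spec.map φ) F x} := by
  have := hF
  let e : F ≅ tilde _ := (asIso (Scheme.Modules.fromTildeΓ (M := F))).symm
  obtain ⟨A₀, D₀, C₀, φ₀, ψ₀, a, d, c, M₀, i1, i2, i3, h1, h2, h3, ⟨h4⟩⟩ := exists_model φ ψ hφ hψ _
    ((S9827.result _ _).mp (PerfC.FPSections.isFP_of_iso e hfp))
  have h5 : IsConstructible {x : ↥(Spec C₀) | E (Spec.map ψ₀) (Spec.map φ₀) (tilde M₀) x} :=
    isConstructible_noeth φ₀ ψ₀ (RingHom.FiniteType.of_finitePresentation i2) (RingHom.FiniteType.of_finitePresentation i3)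
      (tilde M₀) (inferInstance : (tilde M₀).IsQuasicoherent) ((S9827.result _ _).mpr h3)
  have h6 := (Spec.map c).isConstructible_preimage h5
  convert h6 using 1
  ext x
  exact (E_iff_of_iso _ _ (e ≪≫ h4.symm) x).trans (E_baseChange (isPullback_SpecMap_of_isPushout _ _ _ _ h1.flip).flip
    (isPullback_SpecMap_of_isPushout _ _ _ _ h2.flip).flip (tilde M₀) x)

/-- **Fibrewise flatness is a locally constructible condition.** -/
theorem isLocallyConstructible {X Y S : Scheme.{u}} (f : X ⟶ Y) (g : Y ⟶ S) [LocallyOfFinitePresentation (f ≫ g)]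
    [LocallyOfFinitePresentation g] (F : X.Modules) (hF : Coh.IsQCoh F) (hfp : CohB1.IsFP F) :
    IsLocallyConstructible {x : ↥X | E f g F x} := by
  have hf : LocallyOfFinitePresentation f := Ega43.FPOfComp.locallyOfFinitePresentation_of_comp f g
  intro x
  obtain ⟨_, ⟨U, hU, rfl⟩, hxU, -⟩ :=
    S.isBasis_affineOpens.exists_subset_of_mem_open (Set.mem_univ (g (f x))) isOpen_univ
  obtain ⟨_, ⟨V, hV, rfl⟩, hxV, hVU⟩ :=
    Y.isBasis_affineOpens.exists_subset_of_mem_open hxU (U.2.preimage g.continuous)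
  replace hVU : V ≤ g ⁻¹ᵁ U := hVU
  obtain ⟨_, ⟨W, hW, rfl⟩, hxW, hWV⟩ :=
    X.isBasis_affineOpens.exists_subset_of_mem_open hxV (V.2.preimage f.continuous)
  replace hWV : W ≤ f ⁻¹ᵁ V := hWV
  let j := IsAffineOpen.fromSpec hW
  have hjo : IsOpenImmersion j := IsAffineOpen.isOpenImmersion_fromSpec hW
  have hjr : Set.range j.base = (W : Set X) := IsAffineOpen.range_fromSpec hW
  have hj : x ∈ Set.range j.base := by rw [hjr]; exact hxW
  have hopen : IsOpen (Set.range j.base) := IsOpenImmersion.isOpen_range j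
  refine ⟨Set.range j.base, hopen.mem_nhds hj, hopen, ?_⟩
  let e := j.isOpenEmbedding.isEmbedding.toHomeomorph
  have key : IsConstructible (j.base ⁻¹' {x : X | E f g F x}) := by
    have h1 := isConstructible_affine (g.appLE U V hVU) (f.appLE V W hWV) (g.finitePresentation_appLE hU hV hVU)
      (f.finitePresentation_appLE hV hW hWV) ((Scheme.Modules.pullback j).obj F)
      (FormalA.PullbackQC.isQCoh_pullback _ _ hF) (FormalA.PullbackQC.isFP_pullback _ _ hfp)
    convert h1 using 1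
    ext y
    have i1 : IsOpenImmersion (IsAffineOpen.fromSpec hU) := IsAffineOpen.isOpenImmersion_fromSpec hU
    have i2 : IsOpenImmersion (IsAffineOpen.fromSpec hV) := IsAffineOpen.isOpenImmersion_fromSpec hV
    exact (E_chart (hV.SpecMap_appLE_fromSpec f hW hWV).symm (hU.SpecMap_appLE_fromSpec g hV hVU).symm F y).symm
  have : (Subtype.val : Set.range j.base → X) ⁻¹' {x : X | E f g F x} = e.symm ⁻¹' (j.base ⁻¹' {x : X | E f g F x}) := by
    ext ⟨_, t, rfl⟩
    have : e.symm ⟨j.base t, t, rfl⟩ = t := e.symm_apply_apply t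
    change j.base t ∈ {x : X | E f g F x} ↔ j.base (e.symm ⟨j.base t, t, rfl⟩) ∈ {x : X | E f g F x}
    rw [this]
  rw [this]
  exact key.preimage_of_isOpenEmbedding e.symm.isOpenEmbedding

end Groth.Agent.Unram17.K135.FibFlat
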