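import Groth.Agent.S1441
import Groth.Agent.FlatMod.K582.PullFlat
import Groth.Agent.Ega43.Locus

/-!
# Fibrewise flatness of a module at a point

For `f : X ⟶ Y`, `g : Y ⟶ S`, `F` on `X` and `x : X`, `E f g F x` says that the restriction of `F` to the fibre of
`X` over (a field valued point lying over) the image of `x` in `S` is flat over the fibre of `Y`.
-/

set_option autoImplicit false
universe u

open CategoryTheory CategoryTheory.Limits AlgebraicGeometry

namespace Groth.Agent.Unram17.K135.FibFlat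

open Groth.Agent.Ega43.Locus FlatMod

variable {X Y S : Scheme.{u}}

/-- fibrewise flatness at a point, on all field valued points -/
def E (f : X ⟶ Y) (g : Y ⟶ S) (F : X.Modules) (x : X) : Prop :=
  ∀ (K : Type u) [Field K] (k : Spec (CommRingCat.of K) ⟶ S) (Xs Ys : Scheme.{u}) (ιX : Xs ⟶ X) (ιY : Ys ⟶ Y)
    (fs : Xs ⟶ Ys) (pY : Ys ⟶ Spec (CommRingCat.of K)), IsPullback ιY pY g k → IsPullback ιX fs f ιY →
      ∀ x' : Xs, ιX x' = x → IsFlatOverAt fs ((Scheme.Modules.pullback ιX).obj F) x'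

/-- pulling back along a composition -/
theorem isFlatOverAt_pullback_comp_iff {X₁ X₂ X₃ Z : Scheme.{u}} (a : X₁ ⟶ X₂) (b : X₂ ⟶ X₃) (c : X₁ ⟶ X₃)
    (h : a ≫ b = c) (p : X₁ ⟶ Z) (F : X₃.Modules) (x : X₁) :
    IsFlatOverAt p ((Scheme.Modules.pullback c).obj F) x ↔
      IsFlatOverAt p ((Scheme.Modules.pullback a).obj ((Scheme.Modules.pullback b).obj F)) x := by
  subst h
  exact ⟨S1441.isFlatOverAt_of_iso p ((Scheme.Modules.pullbackComp a b).app F).symm x,
    S1441.isFlatOverAt_of_iso p ((Scheme.Modules.pullbackComp a b).app F) x⟩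

/-- injectivity of the inclusion of fibres -/
theorem fst_injective {Z : Scheme.{u}} (q : Z ⟶ S) (s : S) :
    Function.Injective (pullback.fst q (S.fromSpecResidueField s)) :=
  (q.fiberι s).isEmbedding.injective

/-- Comparison with the canonical fibre. -/
theorem flat_iff_canonical (f : X ⟶ Y) (g : Y ⟶ S) (F : X.Modules) (K : Type u) [Field K]
    (k : Spec (CommRingCat.of K) ⟶ S) (Xs Ys : Scheme.{u}) (ιX : Xs ⟶ X) (ιY : Ys ⟶ Y)
    (fs : Xs ⟶ Ys) (pY : Ys ⟶ Spec (CommRingCat.of K)) (hY : IsPullback ιY pY g k) (hX : IsPullback ιX fs f ιY)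
    (x' : Xs) (s : S) (hs : k (IsLocalRing.closedPoint K) = s) (z : ↥(pullback (f ≫ g) (S.fromSpecResidueField s)))
    (hz : pullback.fst (f ≫ g) (S.fromSpecResidueField s) z = ιX x') :
    IsFlatOverAt fs ((Scheme.Modules.pullback ιX).obj F) x' ↔
      IsFlatOverAt (bcMap f g (S.fromSpecResidueField s))
        ((Scheme.Modules.pullback (pullback.fst (f ≫ g) (S.fromSpecResidueField s))).obj F) z := by
  subst hs
  obtain ⟨w, v, hw, hv, h1, h2⟩ := exists_comparison (f := f) (g := g) (f' := fs) (a' := pY) (qX := ιX) (qY := ιY)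
    (k := S.fromSpecResidueField (k (IsLocalRing.closedPoint K)))
    (c := Spec.map (S.descResidueField (Scheme.stalkClosedPointTo k)))
    (by rw [Scheme.descResidueField_stalkClosedPointTo_fromSpecResidueField]; exact hY) hX
  have hvz : v x' = z := by
    apply fst_injective
    rw [← Scheme.Hom.comp_apply, hv, hz]
  have hfl : Flat w := by
    have : Flat (Spec.map (S.descResidueField (Scheme.stalkClosedPointTo k))) := by
      have : Flat (Spec.map (CommRingCat.ofHom (S.descResidueField (Scheme.stalkClosedPointTo k)).hom)) :=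
        inferInstance
      exact this
    exact MorphismProperty.of_isPullback h1 this
  rw [isFlatOverAt_pullback_comp_iff v _ ιX hv, ← hvz]
  exact ⟨Fdesc.FlatBC.isFlatOverAt_of_pullback h2 _ x', Fdesc.FlatBC.isFlatOverAt_pullback h2 _ x'⟩

theorem closedPoint_eq (f : X ⟶ Y) (g : Y ⟶ S) (K : Type u) [Field K]
    (k : Spec (CommRingCat.of K) ⟶ S) (Xs Ys : Scheme.{u}) (ιX : Xs ⟶ X) (ιY : Ys ⟶ Y)
    (fs : Xs ⟶ Ys) (pY : Ys ⟶ Spec (CommRingCat.of K)) (hY : IsPullback ιY pY g k) (hX : IsPullback ιX fs f ιY)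
    (x' : Xs) : k (IsLocalRing.closedPoint K) = (f ≫ g) (ιX x') := by
  rw [← Scheme.Hom.comp_apply, ← Category.assoc, hX.w, Category.assoc, hY.w, ← Category.assoc,
    Scheme.Hom.comp_apply]
  congr 1
  exact Subsingleton.elim _ _

/-- One field valued point suffices. -/
theorem E_iff (f : X ⟶ Y) (g : Y ⟶ S) (F : X.Modules) (K : Type u) [Field K]
    (k : Spec (CommRingCat.of K) ⟶ S) (Xs Ys : Scheme.{u}) (ιX : Xs ⟶ X) (ιY : Ys ⟶ Y)
    (fs : Xs ⟶ Ys) (pY : Ys ⟶ Spec (CommRingCat.of K)) (hY : IsPullback ιY pY g k) (hX : IsPullback ιX fs f ιY)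
    (x' : Xs) (x : X) (hx : ιX x' = x) :
    E f g F x ↔ IsFlatOverAt fs ((Scheme.Modules.pullback ιX).obj F) x' := by
  refine ⟨fun h => h K k Xs Ys ιX ιY fs pY hY hX x' hx, fun h => ?_⟩
  subst hx
  intro K' _ k' Xs' Ys' ιX' ιY' fs' pY' hY' hX' x'' hx''
  have h1 := closedPoint_eq f g K k Xs Ys ιX ιY fs pY hY hX x'
  have h2 := closedPoint_eq f g K' k' Xs' Ys' ιX' ιY' fs' pY' hY' hX' x''
  rw [hx''] at h2
  let z : ↥(pullback (f ≫ g) (S.fromSpecResidueField ((f ≫ g) (ιX x')))) := (f ≫ g).asFiber (ιX x')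
  have hz : pullback.fst (f ≫ g) (S.fromSpecResidueField ((f ≫ g) (ιX x'))) z = ιX x' :=
    (f ≫ g).fiberι_asFiber (ιX x')
  rw [flat_iff_canonical f g F K' k' Xs' Ys' ιX' ιY' fs' pY' hY' hX' x'' _ h2 z (hz.trans hx''.symm)]
  rwa [flat_iff_canonical f g F K k Xs Ys ιX ιY fs pY hY hX x' _ h1 z hz] at h

/-- In terms of the canonical fibre. -/
theorem E_iff_canonical (f : X ⟶ Y) (g : Y ⟶ S) (F : X.Modules) (x : X) :
    E f g F x ↔ IsFlatOverAt (bcMap f g (S.fromSpecResidueField ((f ≫ g) x)))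
        ((Scheme.Modules.pullback (pullback.fst (f ≫ g) (S.fromSpecResidueField ((f ≫ g) x)))).obj F)
        ((f ≫ g).asFiber x) :=
  E_iff f g F (S.residueField ((f ≫ g) x)) _ _ _ _ _ _ _ (IsPullback.of_hasPullback g _) (isPullback_bcMap f g _) _ _
    ((f ≫ g).fiberι_asFiber x)

theorem E_iff_of_iso (f : X ⟶ Y) (g : Y ⟶ S) {F G : X.Modules} (e : F ≅ G) (x : X) : E f g F x ↔ E f g G x := by
  rw [E_iff_canonical, E_iff_canonical]
  exact ⟨S1441.isFlatOverAt_of_iso _ ((Scheme.Modules.pullback _).mapIso e) _,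
    S1441.isFlatOverAt_of_iso _ ((Scheme.Modules.pullback _).mapIso e.symm) _⟩

/-- base change -/
theorem E_baseChange {X' Y' S' : Scheme.{u}} {f : X ⟶ Y} {g : Y ⟶ S} {f' : X' ⟶ Y'} {g' : Y' ⟶ S'} {h : S' ⟶ S}
    {gY : Y' ⟶ Y} {gX : X' ⟶ X} (hY : IsPullback gY g' g h) (hX : IsPullback gX f' f gY) (F : X.Modules) (x' : X') :
    E f' g' ((Scheme.Modules.pullback gX).obj F) x' ↔ E f g F (gX x') := by
  let s' := (f' ≫ g') x'
  let z : ↥(pullback (f' ≫ g') (S'.fromSpecResidueField s')) := (f' ≫ g').asFiber x'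
  have hz : pullback.fst (f' ≫ g') (S'.fromSpecResidueField s') z = x' := (f' ≫ g').fiberι_asFiber x'
  rw [E_iff f' g' _ (S'.residueField s') (S'.fromSpecResidueField s') _ _ _ _ _ _ (IsPullback.of_hasPullback g' _)
    (isPullback_bcMap f' g' _) z x' hz,
    E_iff f g F (S'.residueField s') (S'.fromSpecResidueField s' ≫ h) _ _ _ _ _ _
      ((IsPullback.of_hasPullback g' _).paste_horiz hY) ((isPullback_bcMap f' g' _).paste_horiz hX) z (gX x') (by
        rw [Scheme.Hom.comp_apply, hz])]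
  exact (isFlatOverAt_pullback_comp_iff _ _ _ rfl _ _ _).symm

/-- open immersions in the source -/
theorem E_source {U : Scheme.{u}} (j : U ⟶ X) [IsOpenImmersion j] (f : X ⟶ Y) (g : Y ⟶ S) (F : X.Modules) (u : U) :
    E (j ≫ f) g ((Scheme.Modules.pullback j).obj F) u ↔ E f g F (j u) := by
  let s := (f ≫ g) (j u)
  let k := S.fromSpecResidueField s
  let z : ↥(pullback (f ≫ g) k) := (f ≫ g).asFiber (j u)
  have hz : pullback.fst (f ≫ g) k z = j u := (f ≫ g).fiberι_asFiber (j u)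
  obtain ⟨t, ht1, ht2⟩ := Scheme.Pullback.exists_preimage_pullback (f := pullback.fst (f ≫ g) k) (g := j) z u hz
  have h1 : IsPullback (pullback.fst (f ≫ g) k) (bcMap f g k) f (pullback.fst g k) := isPullback_bcMap f g k
  have h2 : IsPullback (pullback.snd (pullback.fst (f ≫ g) k) j)
      (pullback.fst (pullback.fst (f ≫ g) k) j ≫ bcMap f g k) (j ≫ f) (pullback.fst g k) :=
    (IsPullback.of_hasPullback (pullback.fst (f ≫ g) k) j).flip.paste_vert h1
  rw [E_iff f g F (S.residueField s) k _ _ _ _ _ _ (IsPullback.of_hasPullback g k) h1 z (j u) hz,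
    E_iff (j ≫ f) g _ (S.residueField s) k _ _ _ _ _ _ (IsPullback.of_hasPullback g k) h2 t u ht2,
    ← isFlatOverAt_pullback_comp_iff _ _ _ rfl,
    isFlatOverAt_pullback_comp_iff _ _ _ pullback.condition, ← ht1]
  exact (_root_.K582.PullFlat.isFlatOverAt_iff_pullback _ _ _ _ (Flat.stalkMap _ _)).symm

/-- open immersions in the middle -/
theorem E_target {V : Scheme.{u}} (f : X ⟶ V) (i : V ⟶ Y) [IsOpenImmersion i] (g : Y ⟶ S) (F : X.Modules) (x : X) :
    E (f ≫ i) g F x ↔ E f (i ≫ g) F x := by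
  let s := (f ≫ i ≫ g) x
  let k := S.fromSpecResidueField s
  let z : ↥(pullback (f ≫ i ≫ g) k) := (f ≫ i ≫ g).asFiber x
  have hz : pullback.fst (f ≫ i ≫ g) k z = x := (f ≫ i ≫ g).fiberι_asFiber x
  have h1 : IsPullback (pullback.fst (f ≫ i ≫ g) k) (bcMap f (i ≫ g) k) f (pullback.fst (i ≫ g) k) :=
    isPullback_bcMap f (i ≫ g) k
  have h2 : IsPullback (pullback.fst (i ≫ g) k) (bcMap i g k) i (pullback.fst g k) := isPullback_bcMap i g k
  have h3 : IsOpenImmersion (bcMap i g k) := MorphismProperty.of_isPullback (P := @IsOpenImmersion) h2 inferInstance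
  rw [E_iff f (i ≫ g) F (S.residueField s) k _ _ _ _ _ _ (IsPullback.of_hasPullback (i ≫ g) k) h1 z x hz,
    E_iff (f ≫ i) g F (S.residueField s) k _ _ _ _ _ _ (IsPullback.of_hasPullback g k) (h1.paste_vert h2) z x hz]
  exact Ega3B.FlatRestrict.isFlatOverAt_comp_iff _ _ _ _

/-- monomorphisms on the base -/
theorem E_base {T : Scheme.{u}} (f : X ⟶ Y) (g : Y ⟶ T) (i : T ⟶ S) [Mono i] (F : X.Modules) (x : X) :
    E f (g ≫ i) F x ↔ E f g F x := by
  have hY : IsPullback (𝟙 Y) g (g ≫ i) i := IsPullback.of_horiz_isIso_mono ⟨by simp⟩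
  have hX : IsPullback (𝟙 X) f f (𝟙 Y) := IsPullback.of_horiz_isIso ⟨by simp⟩
  have h1 := E_baseChange hY hX F x
  rw [E_iff_of_iso f g ((Scheme.Modules.pullbackId X).app F) x] at h1
  exact h1.symm

/-- charts -/
theorem E_chart {X' Y' S' : Scheme.{u}} {f : X ⟶ Y} {g : Y ⟶ S} {f' : X' ⟶ Y'} {g' : Y' ⟶ S'} {jS : S' ⟶ S}
    {jY : Y' ⟶ Y} {jX : X' ⟶ X} [Mono jS] [IsOpenImmersion jY] [IsOpenImmersion jX] (hX : jX ≫ f = f' ≫ jY)
    (hY : jY ≫ g = g' ≫ jS) (F : X.Modules) (x' : X') :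
    E f' g' ((Scheme.Modules.pullback jX).obj F) x' ↔ E f g F (jX x') := by
  rw [← E_source jX f g F x', hX, E_target, hY, E_base]

end Groth.Agent.Unram17.K135.FibFlat
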