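import Groth.Agent.Lift.K696.Glob
import Groth.Agent.Lift.K696.Act

/-!
# Restriction of a square-zero thickening to the opens

`pullKap`: the identification of the kernel is inherited by open subschemes of the thickening.
`thr j O : Th (j ⁻¹ᵁ O)`: the restriction of the global thickening `j : X₀ ⟶ X` to the open `O` of `X`; `kapr`.
-/

set_option autoImplicit false
universe u

open CategoryTheory CategoryTheory.Limits AlgebraicGeometry Opposite TopologicalSpace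
open Groth.Agent.Sga67.Sec (Sec res resO res_res resO_resO res_self resO_self res_smul
  eq_of_locally eqO_of_locally)
open K696.Base K696.Thk K696.Diff K696.Act

namespace Groth.Agent.Unram17.K135.KapPull

section pull

variable {X₀ : Scheme.{u}} {U U' : X₀.Opens} {T : Th U} {T' : Th U'} {M : X₀.Modules}
  (hU : U' ≤ U) (k : T'.X ⟶ T.X) (w : T'.j ≫ k = X₀.homOfLE hU ≫ T.j)

include w in
theorem im_eq (W : X₀.Opens) : T'.im W = k ⁻¹ᵁ (T.im W) := by
  have h1 : U'.ι ⁻¹ᵁ W = T'.j ⁻¹ᵁ (k ⁻¹ᵁ T.im W) := by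
    have h2 : T.j ⁻¹ᵁ (T.im W) = U.ι ⁻¹ᵁ W := K696.Base.preimage_im T.j _
    have h3 : T'.j ⁻¹ᵁ (k ⁻¹ᵁ T.im W) = (X₀.homOfLE hU) ⁻¹ᵁ (T.j ⁻¹ᵁ (T.im W)) := by
      rw [← Scheme.Hom.comp_preimage, w, Scheme.Hom.comp_preimage]
    rw [h3, h2, ← Scheme.Hom.comp_preimage, Scheme.homOfLE_ι]
  rw [Th.im, h1, K696.Base.im_preimage]

include w in
theorem im_le (W : X₀.Opens) : T'.im W ≤ k ⁻¹ᵁ (T.im W) := (im_eq hU k w W).le

include w in
theorem im_le_range {W : X₀.Opens} (h : W ≤ U') [IsOpenImmersion k] : T.im W ≤ k.opensRange := by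
  intro x hx
  obtain ⟨y, rfl⟩ := T.j.surjective x
  have h1 : y ∈ U.ι ⁻¹ᵁ W := by
    have h2 : y ∈ T.j ⁻¹ᵁ (T.im W) := hx
    rwa [Th.im, K696.Base.preimage_im] at h2
  have h3 : (⟨y.1, h h1⟩ : U'.toScheme) = (⟨y.1, h h1⟩ : U'.toScheme) := rfl
  refine ⟨T'.j ⟨y.1, h h1⟩, ?_⟩
  have h4 : (T'.j ≫ k) ⟨y.1, h h1⟩ = (X₀.homOfLE hU ≫ T.j) ⟨y.1, h h1⟩ := by rw [w]
  rw [Scheme.Hom.comp_apply, Scheme.Hom.comp_apply] at h4
  refine h4.trans (congrArg T.j ?_)
  exact Scheme.homOfLE_apply' _ _ _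

include w in
theorem bijective_ev {W : X₀.Opens} (h : W ≤ U') [IsOpenImmersion k] :
    Function.Bijective (ev k (im_le hU k w W)) := by
  have h1 : IsIso (k.app (T.im W)) := Scheme.Hom.isIso_app k _ (im_le_range hU k w h)
  have h2 : Function.Bijective (k.app (T.im W)) := (ConcreteCategory.isIso_iff_bijective _).1 h1
  have h3 : ∀ a, ev k (im_le hU k w W) a = resO T'.X (im_le hU k w W) (k.app (T.im W) a) := fun a => ev_eq _ _ _
  have h4 : Function.Bijective (resO T'.X (im_le hU k w W)) := by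
    have h5 := im_eq hU k w W
    constructor
    · intro a b hab
      have h6 := congrArg (resO T'.X h5.ge) hab
      rwa [resO_resO, resO_resO, resO_self, resO_self] at h6
    · intro b
      exact ⟨resO T'.X h5.ge b, by rw [resO_resO, resO_self]⟩
  have h7 : ⇑(ev k (im_le hU k w W)) = (resO T'.X (im_le hU k w W)) ∘ (k.app (T.im W)) := funext h3
  rw [h7]
  exact h4.comp h2

theorem down_homOfLE {W : X₀.Opens} (h : W ≤ U') (b : Γ(U.toScheme, U.ι ⁻¹ᵁ W))
    (h' : U'.ι ⁻¹ᵁ W ≤ (X₀.homOfLE hU) ⁻¹ᵁ (U.ι ⁻¹ᵁ W)) :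
    down U' h (ev (X₀.homOfLE hU) h' b) = down U (h.trans hU) b := by
  have h1 : Function.Injective (ev U'.ι (le_refl (U'.ι ⁻¹ᵁ W))) := fun a b hab => by
    rw [← down_ev U' h a le_rfl, ← down_ev U' h b le_rfl, hab]
  apply h1
  rw [ev_down U' h, ← ev_down U (h.trans hU) b le_rfl, ev_comp (X₀.homOfLE hU) U.ι le_rfl h'
    (by rw [Scheme.homOfLE_ι]), ev_congr (Scheme.homOfLE_ι X₀ hU) _ le_rfl, ev_down U (h.trans hU) b le_rfl]

theorem π_ev_pull {W : X₀.Opens} (h : W ≤ U') (a : Γ(T.X, T.im W)) :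
    T'.π h (ev k (im_le hU k w W) a) = T.π (h.trans hU) a := by
  have h0 : U'.ι ⁻¹ᵁ W ≤ (X₀.homOfLE hU) ⁻¹ᵁ (U.ι ⁻¹ᵁ W) := by
    rw [← Scheme.Hom.comp_preimage, Scheme.homOfLE_ι]
  have h1 : U'.ι ⁻¹ᵁ W ≤ (X₀.homOfLE hU ≫ T.j) ⁻¹ᵁ (T.im W) :=
    h0.trans ((X₀.homOfLE hU).preimage_mono (T.le_preimage_im W))
  rw [Th.π_apply, Th.π_apply, ev_comp T'.j k _ _ (by rw [w]; exact h1), ev_congr w _ h1,
    ← ev_comp (X₀.homOfLE hU) T.j (T.le_preimage_im W) h0 h1, down_homOfLE]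

/-- The identification of the kernel is inherited by open subschemes. -/
noncomputable def pullKap [IsOpenImmersion k] (K : Kap T M) : Kap T' M where
  κ {W} h := (ev k (im_le hU k w W)).toAddMonoidHom.comp (K.κ (h.trans hU))
  res_κ := by
    intro W W' h hW m
    change resO T'.X _ (ev k _ (K.κ _ m)) = ev k _ (K.κ _ (res M hW m))
    rw [← K.res_κ (h.trans hU) hW, res_ev, ev_res]
  inj := by
    intro W h m hm
    refine K.inj (h.trans hU) m ((bijective_ev hU k w h).1 ?_)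
    rw [map_zero]
    exact hm
  π_κ := by
    intro W h m
    change T'.π h (ev k _ (K.κ _ m)) = 0
    rw [π_ev_pull hU k w, K.π_κ]
  ex := by
    intro W h a ha
    obtain ⟨b, rfl⟩ := (bijective_ev hU k w h).2 a
    rw [π_ev_pull hU k w] at ha
    obtain ⟨m, hm⟩ := K.ex (h.trans hU) b ha
    exact ⟨m, congrArg (ev k (im_le hU k w W)) hm⟩
  smul := by
    intro W h a m
    obtain ⟨b, rfl⟩ := (bijective_ev hU k w h).2 a
    change ev k _ (K.κ _ (_ • m)) = ev k _ b * ev k _ (K.κ _ m)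
    rw [π_ev_pull hU k w, K.smul, map_mul]

theorem pullKap_κ [IsOpenImmersion k] (K : Kap T M) {W : X₀.Opens} (h : W ≤ U') (m : Sec M W) :
    (pullKap hU k w K).κ h m = ev k (im_le hU k w W) (K.κ (h.trans hU) m) := rfl

variable {Y S : Scheme.{u}} {g : X₀ ⟶ Y} {q : Y ⟶ S}

include w in
theorem fac {h : T.X ⟶ Y} (hh : T.j ≫ h = U.ι ≫ g) : T'.j ≫ k ≫ h = U'.ι ≫ g := by
  rw [← Category.assoc, w, Category.assoc, hh, ← Category.assoc, Scheme.homOfLE_ι]

/-- Differences are compatible with restriction. -/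
theorem diff_pull [IsOpenImmersion k] (K : Kap T M) (K' : Kap T' M)
    (hK : ∀ {W : X₀.Opens} (h : W ≤ U') (m : Sec M W), K'.κ h m = ev k (im_le hU k w W) (K.κ (h.trans hU) m))
    (h h' : T.X ⟶ Y) (hh : T.j ≫ h = U.ι ≫ g) (hh' : T.j ≫ h' = U.ι ≫ g) (e : h ≫ q = h' ≫ q)
    (w1 : T'.j ≫ k ≫ h = U'.ι ≫ g) (w2 : T'.j ≫ k ≫ h' = U'.ι ≫ g) (e' : (k ≫ h) ≫ q = (k ≫ h') ≫ q) :
    diff K' (k ≫ h) (k ≫ h') w1 w2 e' = (diff K h h' hh hh' e).rs hU := by
  apply DerOn.ext'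
  intro V W hW hV a
  apply K'.κ_injective hW
  rw [κ_diff, hK, DerOn.rs_app, κ_diff, map_sub, ev_comp k h _ _ _ a, ev_comp k h' _ _ _ a]

end pull

section restr

variable {X₀ X : Scheme.{u}} (j : X₀ ⟶ X) [IsClosedImmersion j] (hI : j.ker ^ 2 = ⊥) {M : X₀.Modules}

/-- The restriction of the thickening `j` to the open `O` of `X`. -/
noncomputable def thr (hI : j.ker ^ 2 = ⊥) (O : X.Opens) : Th (j ⁻¹ᵁ O) where
  X := O.toScheme
  j := j ∣_ O
  cl := inferInstance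
  su := by
    have := K696.SqZ.surjective_of_sq j hI
    exact MorphismProperty.of_isPullback (P := @Surjective) (isPullback_morphismRestrict j O).flip this

/-- The inclusion of the restricted thickening. -/
noncomputable def ιr (O : X.Opens) : (thr j hI O).X ⟶ (K696.Glob.thg j hI).X := O.ι

instance isOpenImmersion_ιr (O : X.Opens) : IsOpenImmersion (ιr j hI O) :=
  inferInstanceAs (IsOpenImmersion O.ι)

/-- The inclusion of restricted thickenings. -/
noncomputable def ιrs {O O' : X.Opens} (h : O' ≤ O) : (thr j hI O').X ⟶ (thr j hI O).X := X.homOfLE h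

instance isOpenImmersion_ιrs {O O' : X.Opens} (h : O' ≤ O) : IsOpenImmersion (ιrs j hI h) :=
  inferInstanceAs (IsOpenImmersion (X.homOfLE h))

theorem ιrs_ιr {O O' : X.Opens} (h : O' ≤ O) : ιrs j hI h ≫ ιr j hI O = ιr j hI O' := Scheme.homOfLE_ι X h

theorem thr_w (O : X.Opens) : (thr j hI O).j ≫ ιr j hI O = X₀.homOfLE le_top ≫ (K696.Glob.thg j hI).j := by
  change (j ∣_ O) ≫ O.ι = X₀.homOfLE le_top ≫ (⊤ : X₀.Opens).ι ≫ j
  rw [morphismRestrict_ι, ← Category.assoc, Scheme.homOfLE_ι]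

theorem thr_w' {O O' : X.Opens} (h : O' ≤ O) : (thr j hI O').j ≫ ιrs j hI h =
    X₀.homOfLE (j.preimage_mono h) ≫ (thr j hI O).j := by
  change (j ∣_ O') ≫ X.homOfLE h = X₀.homOfLE _ ≫ (j ∣_ O)
  rw [← cancel_mono O.ι, Category.assoc, Scheme.homOfLE_ι, Category.assoc, morphismRestrict_ι, morphismRestrict_ι,
    ← Category.assoc, Scheme.homOfLE_ι]

/-- The identification of the kernel on the restriction. -/
noncomputable def kapr (K : Kap (K696.Glob.thg j hI) M) (O : X.Opens) : Kap (thr j hI O) M :=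
  pullKap le_top (ιr j hI O) (thr_w j hI O) K

theorem kapr_κ (K : Kap (K696.Glob.thg j hI) M) {O O' : X.Opens} (h : O' ≤ O) {W : X₀.Opens} (hW : W ≤ j ⁻¹ᵁ O')
    (m : Sec M W) : (kapr j hI K O').κ hW m =
      ev (ιrs j hI h) (im_le (j.preimage_mono h) (ιrs j hI h) (thr_w' j hI h) W)
        ((kapr j hI K O).κ (hW.trans (j.preimage_mono h)) m) := by
  rw [kapr, kapr, pullKap_κ, pullKap_κ]
  have h1 := im_le le_top (ιr j hI O') (thr_w j hI O') W
  rw [ev_comp (ιrs j hI h) (ιr j hI O) _ _ (by rw [ιrs_ιr]; exact h1)]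
  exact (ev_congr (ιrs_ιr j hI h) _ _ _).symm

end restr

end Groth.Agent.Unram17.K135.KapPull
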