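import Groth.Prelude.Def_CAlgX
import Mathlib.RingTheory.Extension.Presentation.Core
import Mathlib.RingTheory.FinitePresentation
import Mathlib.RingTheory.Ideal.Quotient.Noetherian
import Mathlib.RingTheory.Polynomial.Basic
import Groth.Agent.CalgB.QuasiRegular

/-!
# Noetherian models of quasi-regular sections

Let `B` be a finitely presented `R`-algebra with a retraction `σ : B → R` whose kernel is generated by a
quasi-regular sequence.  Then everything comes from a finitely generated subring `R₀ ⊆ R`.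
-/

set_option autoImplicit false
universe u

open MvPolynomial TensorProduct

namespace Groth.Agent.Unram17.K135.QRegModel

variable {R B : Type u} [CommRing R] [CommRing B] [Algebra R B]

/-- presentations centred at a retraction -/
theorem exists_centred [Algebra.FinitePresentation R B] (σ : B →ₐ[R] R) :
    ∃ (n m : ℕ) (x : Fin n → B) (p : Fin m → MvPolynomial (Fin n) R),
      Function.Surjective (aeval (R := R) x) ∧
        Ideal.span (Set.range p) = RingHom.ker (aeval (R := R) x) ∧ ∀ i, σ (x i) = 0 := by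
  obtain ⟨n, φ, hφ, hker⟩ := Algebra.FinitePresentation.out (R := R) (A := B)
  let x : Fin n → B := fun i => φ (X i) - algebraMap R B (σ (φ (X i)))
  have hsurj : Function.Surjective (aeval (R := R) x) := by
    have h1 : ((aeval (R := R) x).comp (aeval (R := R) fun i => X i + C (σ (φ (X i))))) = φ := by
      ext i
      simp [x]
    intro b
    obtain ⟨q, rfl⟩ := hφ b
    exact ⟨aeval (R := R) (fun i => X i + C (σ (φ (X i)))) q, congr($h1 q)⟩
  have hfg : (RingHom.ker (aeval (R := R) x : MvPolynomial (Fin n) R →ₐ[R] B).toRingHom).FG :=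
    Algebra.FinitePresentation.ker_fG_of_surjective _ hsurj
  obtain ⟨m, p, hp⟩ := Submodule.fg_iff_exists_fin_generating_family.mp hfg
  refine ⟨n, m, x, p, hsurj, hp, fun i => ?_⟩
  simp [x]

/-- The structure of a model over a subring. -/
theorem exists_model [Algebra.FinitePresentation R B] (σ : B →ₐ[R] R) {c : ℕ} (f : Fin c → B)
    (hf : CAlgX.IsQuasiRegular f) (hker : Ideal.span (Set.range f) = RingHom.ker σ) :
    ∃ (R₀ B₀ : Type u) (_ : CommRing R₀) (_ : CommRing B₀) (_ : Algebra R₀ R) (_ : Algebra R₀ B₀)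
      (_ : Algebra B₀ B) (_ : Algebra R₀ B) (_ : IsScalarTower R₀ R B) (_ : IsScalarTower R₀ B₀ B)
      (f₀ : Fin c → B₀) (σ₀ : B₀ →ₐ[R₀] R₀), IsNoetherianRing R₀ ∧ Algebra.FinitePresentation R₀ B₀ ∧
        Algebra.IsPushout R₀ R B₀ B ∧ (∀ i, algebraMap B₀ B (f₀ i) = f i) ∧
        CAlgX.IsQuasiRegular f₀ ∧ Ideal.span (Set.range f₀) = RingHom.ker σ₀ ∧
        ∀ b, algebraMap R₀ R (σ₀ b) = σ (algebraMap B₀ B b) := by
  classical
  obtain ⟨n, m, x, p, hx, hp, hσx⟩ := exists_centred σ
  -- the retraction is the constant coefficient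
  have hcc : ∀ q : MvPolynomial (Fin n) R, σ (aeval (R := R) x q) = constantCoeff q := by
    intro q
    have h1 : σ.comp (aeval (R := R) x) = aeval (R := R) (fun _ => (0 : R)) := by
      ext i
      simp [hσx]
    have h2 := congr($h1 q)
    rw [AlgHom.comp_apply] at h2
    rw [h2, aeval_zero', Algebra.algebraMap_self, RingHom.id_apply]
  choose F hF using fun i => hx (f i)
  have hxk : ∀ k, x k ∈ Ideal.span (Set.range f) := by
    intro k
    rw [hker, RingHom.mem_ker]
    exact hσx k
  choose a ha using fun k => (Ideal.mem_span_range_iff_exists_fun).mp (hxk k)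
  choose A hA using fun k i => hx (a k i)
  have hxp : ∀ k, X k - ∑ i, A k i * F i ∈ Ideal.span (Set.range p) := by
    intro k
    rw [hp, RingHom.mem_ker]
    simp only [map_sub, aeval_X, map_sum, map_mul, hA, hF, ha, sub_self]
  choose b hb using fun k => (Ideal.mem_span_range_iff_exists_fun).mp (hxp k)
  -- the ring of coefficients
  let s : Set R := (⋃ j, ((p j).coeffs : Set R)) ∪ (⋃ i, ((F i).coeffs : Set R)) ∪
    (⋃ k, ⋃ i, ((A k i).coeffs : Set R)) ∪ (⋃ k, ⋃ j, ((b k j).coeffs : Set R))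
  have hs : s.Finite := by
    refine Set.Finite.union (Set.Finite.union (Set.Finite.union ?_ ?_) ?_) ?_
    · exact Set.finite_iUnion fun j => Finset.finite_toSet _
    · exact Set.finite_iUnion fun j => Finset.finite_toSet _
    · exact Set.finite_iUnion fun j => Set.finite_iUnion fun j => Finset.finite_toSet _
    · exact Set.finite_iUnion fun j => Set.finite_iUnion fun j => Finset.finite_toSet _
  let R₀ : Subalgebra ℤ R := Algebra.adjoin ℤ s
  have hR₀ : IsNoetherianRing R₀ := by
    have : Algebra.FiniteType ℤ R₀ := Algebra.FiniteType.adjoin_of_finite hs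
    exact Algebra.FiniteType.isNoetherianRing ℤ R₀
  have hsub : ∀ q : MvPolynomial (Fin n) R, (q.coeffs : Set R) ⊆ s →
      ∃ q₀ : MvPolynomial (Fin n) R₀, MvPolynomial.map (algebraMap R₀ R) q₀ = q := by
    intro q hq
    have := (MvPolynomial.mem_range_map_iff_coeffs_subset (f := algebraMap R₀ R) (x := q)).mpr (by
      intro r hr
      exact ⟨⟨r, Algebra.subset_adjoin (hq hr)⟩, rfl⟩)
    exact this
  have hinj : Function.Injective (MvPolynomial.map (σ := Fin n) (algebraMap R₀ R)) :=
    MvPolynomial.map_injective _ Subtype.val_injective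
  let P : Algebra.Presentation R B (Fin n) (Fin m) :=
    { toGenerators := Algebra.Generators.ofSurjective x hx
      relation := p
      span_range_relation_eq_ker := hp }
  have hcoef : P.HasCoeffs R₀ := by
    refine ⟨?_⟩
    intro r hr
    obtain ⟨j, hj⟩ := Set.mem_iUnion.mp hr
    exact ⟨⟨r, Algebra.subset_adjoin (Or.inl (Or.inl (Or.inl (Set.mem_iUnion.mpr ⟨j, hj⟩))))⟩, rfl⟩
  let B₀ := P.ModelOfHasCoeffs R₀
  obtain ⟨F₀, hF₀⟩ : ∃ F₀ : Fin c → MvPolynomial (Fin n) R₀, ∀ i, MvPolynomial.map (algebraMap R₀ R) (F₀ i) = F i := by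
    choose F₀ h using fun i => hsub (F i) (fun r hr => Or.inl (Or.inl (Or.inr (Set.mem_iUnion.mpr ⟨i, hr⟩))))
    exact ⟨F₀, h⟩
  obtain ⟨A₀, hA₀⟩ : ∃ A₀ : Fin n → Fin c → MvPolynomial (Fin n) R₀,
      ∀ k i, MvPolynomial.map (algebraMap R₀ R) (A₀ k i) = A k i := by
    choose A₀ h using fun k i => hsub (A k i) (fun r hr => Or.inl (Or.inr (Set.mem_iUnion.mpr ⟨k,
      Set.mem_iUnion.mpr ⟨i, hr⟩⟩)))
    exact ⟨A₀, h⟩
  obtain ⟨b₀, hb₀⟩ : ∃ b₀ : Fin n → Fin m → MvPolynomial (Fin n) R₀,
      ∀ k j, MvPolynomial.map (algebraMap R₀ R) (b₀ k j) = b k j := by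
    choose A₀ h using fun k j => hsub (b k j) (fun r hr => Or.inr (Set.mem_iUnion.mpr ⟨k,
      Set.mem_iUnion.mpr ⟨j, hr⟩⟩))
    exact ⟨A₀, h⟩
  let p₀ := P.relationOfHasCoeffs R₀
  have hp₀ : ∀ j, MvPolynomial.map (algebraMap R₀ R) (p₀ j) = p j := P.map_relationOfHasCoeffs R₀
  have hccm : ∀ q : MvPolynomial (Fin n) R₀, algebraMap R₀ R (constantCoeff q) =
      constantCoeff (MvPolynomial.map (algebraMap R₀ R) q) := fun q => by
    rw [constantCoeff_map]
  have hR₀inj : Function.Injective (algebraMap R₀ R) := Subtype.val_injective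
  have hccp : ∀ j, constantCoeff (p₀ j) = 0 := by
    intro j
    apply hR₀inj
    rw [hccm, hp₀, ← hcc, map_zero]
    have : aeval (R := R) x (p j) = 0 := by
      have h1 : p j ∈ Ideal.span (Set.range p) := Ideal.subset_span ⟨j, rfl⟩
      rwa [hp] at h1
    rw [this, map_zero]
  let σ₀ : B₀ →ₐ[R₀] R₀ := Ideal.Quotient.liftₐ _ (aeval (R := R₀) (fun _ : Fin n => (0 : R₀))) (by
    intro q hq
    have : Ideal.span (Set.range p₀) ≤ RingHom.ker (aeval (R := R₀) (fun _ : Fin n => (0 : R₀))) := by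
      rw [Ideal.span_le]
      rintro _ ⟨j, rfl⟩
      change aeval (R := R₀) (fun _ : Fin n => (0 : R₀)) (p₀ j) = 0
      rw [aeval_zero', hccp, map_zero]
    exact this hq)
  have hσ₀ : ∀ q : MvPolynomial (Fin n) R₀, σ₀ (Ideal.Quotient.mk _ q) = constantCoeff q := by
    intro q
    change aeval (R := R₀) (fun _ : Fin n => (0 : R₀)) q = _
    rw [aeval_zero', Algebra.algebraMap_self, RingHom.id_apply]
  let f₀ : Fin c → B₀ := fun i => Ideal.Quotient.mk _ (F₀ i)
  let β : B₀ →ₐ[R₀] B := (((P.tensorModelOfHasCoeffsEquiv R₀).toAlgHom.restrictScalars R₀).comp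
    Algebra.TensorProduct.includeRight)
  have hβ : ∀ q : MvPolynomial (Fin n) R₀, β (Ideal.Quotient.mk _ q) =
      aeval (R := R) x (MvPolynomial.map (algebraMap R₀ R) q) := by
    intro q
    have h1 : β (Ideal.Quotient.mk _ q) = P.tensorModelOfHasCoeffsEquiv R₀ ((1 : R) ⊗ₜ (Ideal.Quotient.mk _ q)) := rfl
    rw [h1, P.tensorModelOfHasCoeffsEquiv_tmul, map_one, one_mul, aeval_map_algebraMap]
    rfl
  let algB : Algebra B₀ B := β.toRingHom.toAlgebra
  have hβ' : ∀ b, algebraMap B₀ B b = β b := fun b => rfl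
  have htower : IsScalarTower R₀ B₀ B := IsScalarTower.of_algebraMap_eq' β.comp_algebraMap.symm
  have hσβ : ∀ b, algebraMap R₀ R (σ₀ b) = σ (algebraMap B₀ B b) := by
    intro b
    obtain ⟨q, rfl⟩ := Ideal.Quotient.mk_surjective b
    rw [hβ', hβ, hcc, hσ₀, hccm]
  have hff : ∀ i, algebraMap B₀ B (f₀ i) = f i := by
    intro i
    rw [hβ']
    change β (Ideal.Quotient.mk _ (F₀ i)) = f i
    rw [hβ, hF₀, hF]
  have hspan : Ideal.span (Set.range f₀) = RingHom.ker σ₀ := by
    apply le_antisymm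
    · rw [Ideal.span_le]
      rintro _ ⟨i, rfl⟩
      change σ₀ (f₀ i) = 0
      apply hR₀inj
      rw [hσβ, hff, map_zero]
      have h1 : f i ∈ Ideal.span (Set.range f) := Ideal.subset_span ⟨i, rfl⟩
      rw [hker] at h1
      exact h1
    · intro y hy
      obtain ⟨q, rfl⟩ := Ideal.Quotient.mk_surjective y
      rw [RingHom.mem_ker, hσ₀] at hy
      have hXk : ∀ k, (Ideal.Quotient.mk (Ideal.span (Set.range p₀)) (X k) : B₀) ∈
          Ideal.span (Set.range f₀) := by
        intro k
        have h1 : (X k : MvPolynomial (Fin n) R₀) = ∑ i, A₀ k i * F₀ i + ∑ j, b₀ k j * p₀ j := by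
          apply hinj
          simp only [map_add, map_sum, map_mul, MvPolynomial.map_X, hA₀, hF₀, hb₀, hp₀, hb]
          ring
        rw [h1, map_add]
        have h2 : (Ideal.Quotient.mk (Ideal.span (Set.range p₀))) (∑ j, b₀ k j * p₀ j) = 0 := by
          rw [Ideal.Quotient.eq_zero_iff_mem]
          exact Ideal.sum_mem _ fun j _ => Ideal.mul_mem_left _ _ (Ideal.subset_span ⟨j, rfl⟩)
        rw [h2, add_zero, map_sum]
        refine Ideal.sum_mem _ fun i _ => ?_
        rw [map_mul]
        exact Ideal.mul_mem_left _ _ (Ideal.subset_span ⟨i, rfl⟩)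
      have h3 : q ∈ Ideal.span (Set.range (X : Fin n → MvPolynomial (Fin n) R₀)) := by
        exact (Groth.Agent.CalgB.QuasiRegular.mem_idealOfVars_iff q).mpr hy
      have h4 : Ideal.span (Set.range (X : Fin n → MvPolynomial (Fin n) R₀)) ≤
          (Ideal.span (Set.range f₀)).comap (Ideal.Quotient.mk (Ideal.span (Set.range p₀))) := by
        rw [Ideal.span_le]
        rintro _ ⟨k, rfl⟩
        exact hXk k
      exact h4 h3
  refine ⟨R₀, B₀, inferInstance, inferInstance, inferInstance, inferInstance, algB, inferInstance,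
    inferInstance, htower, f₀, σ₀, hR₀, inferInstance, ?_, hff, ?_, hspan, hσβ⟩
  · refine ⟨IsBaseChange.of_equiv (P.tensorModelOfHasCoeffsEquiv R₀).toLinearEquiv fun y => ?_⟩
    rfl
  · intro N Q hQ hev d
    rw [hspan, RingHom.mem_ker]
    apply hR₀inj
    rw [hσβ, map_zero]
    have h1 := hf N (MvPolynomial.map (algebraMap B₀ B) Q) (hQ.map _) (by
      have h2 : (fun i => algebraMap B₀ B (f₀ i)) = f := funext hff
      have h3 : Ideal.span (Set.range f) = (Ideal.span (Set.range f₀)).map (algebraMap B₀ B) := by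
        rw [Ideal.map_span, ← Set.range_comp, ← h2]
        rfl
      have h4 : eval f (MvPolynomial.map (algebraMap B₀ B) Q) = algebraMap B₀ B (eval f₀ Q) := by
        rw [← h2]
        exact (MvPolynomial.map_eval (algebraMap B₀ B) f₀ Q).symm
      rw [h3, h4, ← Ideal.map_pow]
      exact Ideal.mem_map_of_mem _ hev) d
    rw [hker, coeff_map] at h1
    exact h1

end Groth.Agent.Unram17.K135.QRegModel
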