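import Groth.Agent.Unram17.K135.QRegModel
import Groth.Agent.SDiv.K472.RelSliced
import Groth.Agent.SDiv.K472.RelFlat
import Groth.Agent.AlgSp.K637.RegChart
import Groth.Agent.Dix.NeronEllA
import Groth.Agent.Ega4dB.RegQuot
import Groth.Agent.S18944
import Groth.Agent.CycB.FiberKer

/-!
# Quasi-regular sections go to the smooth locus
-/

set_option autoImplicit false
universe u

open CategoryTheory CategoryTheory.Limits AlgebraicGeometry IsLocalRing

namespace Groth.Agent.Unram17.K135.QRegSection

open Groth.Agent.Flat2D.FiberStalk RegImm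

/-- Pointwise fibre criterion at a point flat over the base with trivial residue field extension. -/
theorem mem_smoothLocus_of_flat_of_fibre {X S : Scheme.{u}} (f : X ⟶ S)
    [LocallyOfFinitePresentation f] (x : X) (hfl : (f.stalkMap x).hom.Flat)
    (hs : Function.Surjective (f.residueFieldMap x).hom)
    (h : IsRegularLocalRing ((f.fiber (f x)).presheaf.stalk (f.asFiber x))) : x ∈ f.smoothLocus := by
  have hpb : IsPullback (f.fiberι (f x)) (f.fiberToSpecResidueField (f x)) f
      (S.fromSpecResidueField (f x)) := IsPullback.of_hasPullback f (S.fromSpecResidueField (f x))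
  have hlfp : LocallyOfFinitePresentation (f.fiberToSpecResidueField (f x)) :=
    MorphismProperty.of_isPullback hpb inferInstance
  have hfl' : (f.stalkMap ((f.fiberι (f x)) (f.asFiber x))).hom.Flat := by
    rw [f.fiberι_asFiber x]
    exact hfl
  have h1 := Groth.Agent.Smoothlim.SmoothLocusBC.mem_smoothLocus_iff_of_isPullback hpb
    (f.asFiber x) (Or.inl hfl')
  rw [f.fiberι_asFiber x] at h1
  rw [← h1]
  let k := S.residueField (f x)
  let _ : (f.fiber (f x)).Over (Spec (CommRingCat.of k)) := ⟨f.fiberToSpecResidueField (f x)⟩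
  have hlfp' : LocallyOfFinitePresentation ((f.fiber (f x)) ↘ Spec (CommRingCat.of k)) := hlfp
  refine Groth.Agent.VarietyA.SmoothReg.mem_smoothLocus_of_isRegularLocalRing k (f.fiber (f x))
    (f.asFiber x) ?_ h
  have key : CommRingCat.ofHom (Curv2.resMap k (f.fiber (f x)) (f.asFiber x)) =
      (S.residueFieldCongr (congrArg f (f.fiberι_asFiber x))).inv ≫
        f.residueFieldMap (f.fiberι (f x) (f.asFiber x)) ≫
          (f.fiberι (f x)).residueFieldMap (f.asFiber x) := by
    apply Spec.map_injective
    rw [← cancel_mono (S.fromSpecResidueField (f x))]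
    have e1 : Spec.map (CommRingCat.ofHom (Curv2.resMap k (f.fiber (f x)) (f.asFiber x))) =
        (f.fiber (f x)).fromSpecResidueField (f.asFiber x) ≫ f.fiberToSpecResidueField (f x) := by
      have e2 := Groth.Agent.VarietyA.StalkBC.fromSpecStalk_comp
        (R := k) (f.fiberToSpecResidueField (f x)) (f.asFiber x)
      rw [Scheme.fromSpecResidueField, Category.assoc]
      refine Eq.trans ?_ (congrArg (Spec.map ((f.fiber (f x)).residue (f.asFiber x)) ≫ ·) e2).symm
      exact Spec.map_comp _ _
    rw [e1, Spec.map_comp, Spec.map_comp, Category.assoc, Category.assoc, Category.assoc, ← hpb.w]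
    have e3 : Spec.map (S.residueFieldCongr (congrArg f (f.fiberι_asFiber x))).inv ≫
        S.fromSpecResidueField (f x) =
        S.fromSpecResidueField (f (f.fiberι (f x) (f.asFiber x))) :=
      Scheme.residueFieldCongr_fromSpecResidueField (congrArg f (f.fiberι_asFiber x)).symm
    rw [e3, Scheme.Hom.SpecMap_residueFieldMap_fromSpecResidueField,
      Scheme.Hom.SpecMap_residueFieldMap_fromSpecResidueField_assoc]
  have hsurj : Function.Surjective (Curv2.resMap k (f.fiber (f x)) (f.asFiber x)) := by
    have h2 : ∀ x' : X, x' = x → Function.Surjective (f.residueFieldMap x').hom := by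
      rintro _ rfl; exact hs
    have h3 : Function.Surjective ((f.fiberι (f x)).residueFieldMap (f.asFiber x)).hom := by
      have h4 := stalkMap_fiberι_surjective f (f x) (f.asFiber x)
      intro a
      obtain ⟨b, rfl⟩ := IsLocalRing.residue_surjective a
      obtain ⟨c, rfl⟩ := h4 b
      exact ⟨IsLocalRing.residue _ c, rfl⟩
    have h5 := congrArg CommRingCat.Hom.hom key
    have h6 : Curv2.resMap k (f.fiber (f x)) (f.asFiber x) =
      ((f.fiberι (f x)).residueFieldMap (f.asFiber x)).hom.comp
        ((f.residueFieldMap (f.fiberι (f x) (f.asFiber x))).hom.comp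
          (S.residueFieldCongr (congrArg f (f.fiberι_asFiber x))).inv.hom) := h5
    rw [h6]
    refine h3.comp ((h2 _ (f.fiberι_asFiber x)).comp ?_)
    exact (S.residueFieldCongr (congrArg f (f.fiberι_asFiber x))).symm.commRingCatIsoToRingEquiv.surjective
  let _ := Curv2.resAlgebra k (f.fiber (f x)) (f.asFiber x)
  have e4 : k ≃ₐ[k] (f.fiber (f x)).residueField (f.asFiber x) :=
    AlgEquiv.ofBijective (Algebra.ofId _ _)
      ⟨(Curv2.resMap k (f.fiber (f x)) (f.asFiber x)).injective, hsurj⟩
  exact Algebra.FormallySmooth.of_equiv e4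

/-- the residue field extension at a point of a section is trivial -/
theorem residueFieldMap_surjective_of_section {S X : Scheme.{u}} (f : X ⟶ S) (i : S ⟶ X) (hi : i ≫ f = 𝟙 S)
    (t : S) : Function.Surjective (f.residueFieldMap (i t)).hom := by
  have hiso : IsIso (i ≫ f) := by rw [hi]; infer_instance
  have h4 : IsIso ((i ≫ f).residueFieldMap t) := inferInstance
  have h5 : (i ≫ f).residueFieldMap t = f.residueFieldMap (i t) ≫ i.residueFieldMap t :=
    Scheme.residueFieldMap_comp _ _ _
  intro y
  have h6 : Function.Surjective ((i ≫ f).residueFieldMap t).hom :=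
    (asIso ((i ≫ f).residueFieldMap t)).commRingCatIsoToRingEquiv.surjective
  obtain ⟨z, hz⟩ := h6 ((i.residueFieldMap t).hom y)
  have h7 := congr(($h5).hom z)
  exact ⟨z, (i.residueFieldMap t).hom.injective (h7.symm.trans hz)⟩

/-- A local ring with a regular immersion of the spectrum of a field through its closed point is regular. -/
theorem isRegularLocalRing_of_regular_immersion {Z F : Scheme.{u}} [IsLocallyNoetherian F] (i : Z ⟶ F)
    (hi : IsRegularImmersion .regular i) (z : Z) (hz : IsField (Z.presheaf.stalk z)) :
    IsRegularLocalRing (F.presheaf.stalk (i z)) := by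
  obtain ⟨rs, hrs, hker⟩ := Groth.Agent.S18944.result i hi z
  have himm := hi.1
  refine Groth.Agent.Ega4dB.RegQuot.isRegularLocalRing_of_quotient_ofList rs hrs ?_
  rw [← hker]
  have hsurj : Function.Surjective (i.stalkMap z).hom := i.stalkMap_surjective z
  have e := RingHom.quotientKerEquivOfSurjective hsurj
  have : IsRegularLocalRing (Z.presheaf.stalk z) := by
    let _ : Field (Z.presheaf.stalk z) := hz.toField
    infer_instance
  exact IsRegularLocalRing.of_ringEquiv e.symm

/-- Quasi-regular sections over a locally Noetherian base go to the smooth locus. -/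
theorem mem_smoothLocus_of_noetherian {S X : Scheme.{u}} [IsLocallyNoetherian S] (f : X ⟶ S)
    [LocallyOfFinitePresentation f] (i : S ⟶ X) (hi : i ≫ f = 𝟙 S)
    (hq : IsRegularImmersion .quasi i) (s : S) : i s ∈ f.smoothLocus := by
  have hrel : IsRelRegularImmersion .quasi f i := ⟨hq, by rw [hi]; infer_instance⟩
  have hX : IsLocallyNoetherian X := LocallyOfFiniteType.isLocallyNoetherian f
  have hflat : ∀ z : S, (f.stalkMap (i z)).hom.Flat := fun z => K472.RelFlat.flat_stalkMap f i hrel z
  have hpb : IsPullback (f.fiberι (f (i s))) (f.fiberToSpecResidueField (f (i s))) f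
      (S.fromSpecResidueField (f (i s))) := IsPullback.of_hasPullback f (S.fromSpecResidueField (f (i s)))
  have h' : IsPullback (pullback.fst i (f.fiberι (f (i s)))) (pullback.snd i (f.fiberι (f (i s)))) i
      (f.fiberι (f (i s))) := IsPullback.of_hasPullback _ _
  have hreg := K472.RelSliced.isRegularImmersion_of_isPullback hrel hflat hpb h'
  have hiso : IsIso (pullback.snd i (f.fiberι (f (i s))) ≫ f.fiberToSpecResidueField (f (i s))) := by
    have h1 : IsPullback _ _ _ _ := h'.paste_vert hpb
    have h2 : IsIso (i ≫ f) := by rw [hi]; infer_instance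
    exact MorphismProperty.of_isPullback (P := MorphismProperty.isomorphisms Scheme.{u}) h1 h2
  obtain ⟨z', hz1, hz2⟩ := Scheme.Pullback.exists_preimage_pullback (f := i) (g := f.fiberι (f (i s))) s
    (f.asFiber (i s)) (by rw [f.fiberι_asFiber])
  have hF : IsLocallyNoetherian (f.fiber (f (i s))) := by
    have : LocallyOfFinitePresentation (f.fiberToSpecResidueField (f (i s))) :=
      MorphismProperty.of_isPullback hpb inferInstance
    exact LocallyOfFiniteType.isLocallyNoetherian (f.fiberToSpecResidueField (f (i s)))
  refine mem_smoothLocus_of_flat_of_fibre f (i s) (hflat s) (residueFieldMap_surjective_of_section f i hi s) ?_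
  rw [← hz2]
  refine isRegularLocalRing_of_regular_immersion _ hreg z' ?_
  exact (asIso ((pullback.snd i (f.fiberι (f (i s))) ≫
    f.fiberToSpecResidueField (f (i s))).stalkMap z')).commRingCatIsoToRingEquiv.symm.toMulEquiv.isField
    (Groth.Agent.CycB.FiberKer.isField_stalk_Spec_of_isField _ (Field.toIsField _) _)

end Groth.Agent.Unram17.K135.QRegSection
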