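import Groth.Agent.Unram17.K135.QRegSection
import Groth.Agent.S14315

/-!
# Quasi-regular sections go to the smooth locus: general bases
-/

set_option autoImplicit false
universe u

open CategoryTheory CategoryTheory.Limits AlgebraicGeometry IsLocalRing

namespace Groth.Agent.Unram17.K135.QRegSmooth

open RegImm K637.RegChart K473.RegImmCalc K472.RelImm

/-- Spectra of surjections with kernel generated by a quasi-regular sequence. -/
theorem isRegularImmersion_Spec_map {A C : Type u} [CommRing A] [CommRing C] (φ : A →+* C)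
    (hφ : Function.Surjective φ) (rs : List A) (hrs : Kind.quasi.Seq A rs) (hker : RingHom.ker φ = Ideal.ofList rs) :
    IsRegularImmersion .quasi (Spec.map (CommRingCat.ofHom φ)) := by
  have hcl : IsClosedImmersion (Spec.map (CommRingCat.ofHom φ)) := IsClosedImmersion.spec_of_surjective _ hφ
  refine ⟨inferInstance, fun z => ?_⟩
  rw [isRegularImmersionAt_iff (by decide)]
  refine ⟨A, inferInstance, rs, 𝟙 _, inferInstance, ⟨_, rfl⟩, hrs, ?_⟩
  rw [← hker]
  let e := RingHom.quotientKerEquivOfSurjective hφ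
  refine ⟨Spec.map (CommRingCat.ofHom e.symm.toRingHom), ?_⟩
  have : IsIso (Spec.map (CommRingCat.ofHom e.symm.toRingHom)) := by
    have : IsIso (CommRingCat.ofHom e.symm.toRingHom) := (RingEquiv.toCommRingCatIso e.symm).isIso_hom
    infer_instance
  refine IsPullback.of_horiz_isIso ⟨?_⟩
  rw [Category.comp_id, ← Spec.map_comp, ← CommRingCat.ofHom_comp]
  congr 2
  ext a
  change e.symm (φ a) = Ideal.Quotient.mk _ a
  rw [RingEquiv.symm_apply_eq]
  rfl

/-- affine sections with quasi-regular ideal -/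
theorem mem_smoothLocus_Spec {R B : Type u} [CommRing R] [CommRing B] [Algebra R B] [Algebra.FinitePresentation R B]
    (σ : B →ₐ[R] R) (rs : List B) (hrs : Kind.quasi.Seq B rs) (hker : RingHom.ker σ = Ideal.ofList rs)
    [LocallyOfFinitePresentation (Spec.map (CommRingCat.ofHom (algebraMap R B)))] (m : Spec (CommRingCat.of R)) :
    Spec.map (CommRingCat.ofHom σ.toRingHom) m ∈ (Spec.map (CommRingCat.ofHom (algebraMap R B))).smoothLocus := by
  obtain ⟨R₀, B₀, _, _, _, _, _, _, _, _, f₀, σ₀, hR₀, hfp, hpo, hf₀, hq₀, hker₀, hσ⟩ :=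
    QRegModel.exists_model σ rs.get hrs (by rw [← ofList_eq_span_range, hker])
  have hpo' := CommRingCat.isPushout_of_isPushout R₀ R B₀ B
  have hpb := isPullback_SpecMap_of_isPushout _ _ _ _ hpo'
  have hlfp : LocallyOfFinitePresentation (Spec.map (CommRingCat.ofHom (algebraMap R₀ B₀))) := by
    rw [HasRingHomProperty.Spec_iff (P := @LocallyOfFinitePresentation)]
    exact RingHom.finitePresentation_algebraMap.mpr hfp
  have hsurj : Function.Surjective σ₀ := fun r => ⟨algebraMap R₀ B₀ r, by simp⟩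
  have hq : IsRegularImmersion .quasi (Spec.map (CommRingCat.ofHom σ₀.toRingHom)) := by
    refine isRegularImmersion_Spec_map σ₀.toRingHom hsurj (List.ofFn f₀) ((K473.SeqFlat.seq_quasi_ofFn f₀).mpr hq₀) ?_
    rw [Ideal.ofList, show RingHom.ker σ₀.toRingHom = RingHom.ker σ₀ from rfl, ← hker₀]
    congr 1
    ext b
    simp
  have h1 := QRegSection.mem_smoothLocus_of_noetherian (Spec.map (CommRingCat.ofHom (algebraMap R₀ B₀)))
    (Spec.map (CommRingCat.ofHom σ₀.toRingHom)) (by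
      rw [← Spec.map_comp, ← CommRingCat.ofHom_comp]
      have : σ₀.toRingHom.comp (algebraMap R₀ B₀) = RingHom.id R₀ := σ₀.comp_algebraMap
      rw [this]
      exact Spec.map_id _) hq (Spec.map (CommRingCat.ofHom (algebraMap R₀ R)) m)
  have h2 : Spec.map (CommRingCat.ofHom (algebraMap B₀ B)) (Spec.map (CommRingCat.ofHom σ.toRingHom) m) =
      Spec.map (CommRingCat.ofHom σ₀.toRingHom) (Spec.map (CommRingCat.ofHom (algebraMap R₀ R)) m) := by
    have h3 : σ.toRingHom.comp (algebraMap B₀ B) = (algebraMap R₀ R).comp σ₀.toRingHom :=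
      RingHom.ext fun b => (hσ b).symm
    rw [← Scheme.Hom.comp_apply, ← Scheme.Hom.comp_apply, ← Spec.map_comp, ← Spec.map_comp,
      ← CommRingCat.ofHom_comp, ← CommRingCat.ofHom_comp, h3]
  rw [← h2] at h1
  exact (Groth.Agent.Smoothlim.SmoothLocusBC.mem_smoothLocus_iff_of_isPullback hpb.flip _
    (Or.inl (Groth.Agent.Smoothlim.SmoothLocusBC.flat_stalkMap_of_mem_smoothLocus h1))).mpr h1

theorem appLE_eq_of_eq {X Y : Scheme.{u}} {f g : X ⟶ Y} (h : f = g) (U : Y.Opens) (V : X.Opens) (e : V ≤ f ⁻¹ᵁ U)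
    (e' : V ≤ g ⁻¹ᵁ U) : f.appLE U V e = g.appLE U V e' := by
  subst h
  rfl

theorem appLE_injective_of_eq {X Y : Scheme.{u}} {f : X ⟶ Y} {U : Y.Opens} {V : X.Opens} (e : V = f ⁻¹ᵁ U)
    (h : IsIso (f.app U)) (e' : V ≤ f ⁻¹ᵁ U) : Function.Injective (f.appLE U V e').hom := by
  subst e
  rw [← Scheme.Hom.app_eq_appLE]
  exact (asIso (f.app U)).commRingCatIsoToRingEquiv.injective

/-- Smoothness on affine charts. -/
theorem mem_smoothLocus_of_chart {X S : Scheme.{u}} (f : X ⟶ S) [LocallyOfFinitePresentation f] {U : X.Opens}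
    {W : S.Opens} (hU : IsAffineOpen U) (hW : IsAffineOpen W) (e : U ≤ f ⁻¹ᵁ W)
    [LocallyOfFinitePresentation (Spec.map (f.appLE W U e))] (p : Spec Γ(X, U))
    (hp : p ∈ (Spec.map (f.appLE W U e)).smoothLocus) : hU.fromSpec p ∈ f.smoothLocus := by
  have h1 : Spec.map (f.appLE W U e) ≫ hW.fromSpec = hU.fromSpec ≫ f :=
    IsAffineOpen.SpecMap_appLE_fromSpec f hW hU e
  have h2 : p ∈ (Spec.map (f.appLE W U e) ≫ hW.fromSpec).smoothLocus := by
    apply Groth.Agent.S14315.mem_comp _ _ _ hp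
    rw [Scheme.Hom.smoothLocus_eq_top]
    trivial
  have h3 := Groth.Agent.S14315.mem_congr h1 p h2
  rw [← Scheme.Hom.preimage_smoothLocus_eq] at h3
  exact h3

/-- A section which is a quasi-regular immersion near `s` goes to the smooth locus. -/
theorem mem_smoothLocus_of_isRegularImmersionAt {X S : Scheme.{u}} (f : X ⟶ S) [LocallyOfFinitePresentation f]
    (u : S ⟶ X) (hu : u ≫ f = 𝟙 S) (V : S.Opens) (s : S) (hs : s ∈ V)
    (h : IsRegularImmersionAt .quasi (V.ι ≫ u) ⟨s, hs⟩) : u s ∈ f.smoothLocus := by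
  have hfu : ∀ t : S, f (u t) = t := fun t => by
    rw [← Scheme.Hom.comp_apply, hu]
    rfl
  obtain ⟨S₀, hS₀, hsS₀, -⟩ := exists_isAffineOpen_mem_and_subset (U := (⊤ : S.Opens)) (x := s) trivial
  have hus : (V.ι ≫ u) ⟨s, hs⟩ = u s := by rw [Scheme.Hom.comp_apply]; rfl
  obtain ⟨⟨U, hU⟩, hsU, hUS₀, hon⟩ := At.exists_le h (f ⁻¹ᵁ S₀) (by
    change f ((V.ι ≫ u) ⟨s, hs⟩) ∈ S₀
    rw [hus, hfu]
    exact hsS₀)
  rw [hus] at hsU
  -- the open of the base
  have hW' : IsAffineOpen ((V.ι ≫ u) ⁻¹ᵁ U) := K559.Basic.isAffineOpen_preimage hU hon.1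
  let W : S.Opens := V.ι ''ᵁ ((V.ι ≫ u) ⁻¹ᵁ U)
  have hW : IsAffineOpen W := hW'.image_of_isOpenImmersion V.ι
  have hWmem : ∀ t : S, t ∈ W ↔ t ∈ V ∧ u t ∈ U := by
    intro t
    constructor
    · rintro ⟨⟨t', ht'⟩, h1, rfl⟩
      refine ⟨ht', ?_⟩
      have h2 : (V.ι ≫ u) ⟨t', ht'⟩ ∈ U := h1
      rw [Scheme.Hom.comp_apply] at h2
      exact h2
    · rintro ⟨h1, h2⟩
      refine ⟨⟨t, h1⟩, ?_, rfl⟩
      change (V.ι ≫ u) ⟨t, h1⟩ ∈ U
      rw [Scheme.Hom.comp_apply]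
      exact h2
  have hWS₀ : W ≤ S₀ := by
    intro t ht
    have := hUS₀ ((hWmem t).mp ht).2
    change f (u t) ∈ S₀ at this
    rwa [hfu] at this
  -- the open of the source
  let U₁ : X.Opens := U ⊓ f ⁻¹ᵁ W
  have hU₁ : IsAffineOpen U₁ := by
    have hc : IsPullback (𝟙 X) f f (𝟙 S) := IsPullback.of_horiz_isIso ⟨by simp⟩
    have := (chart hc hS₀ hU hW hUS₀ (by exact hWS₀)).1
    exact this
  have hsU₁ : u s ∈ U₁ := ⟨hsU, by
    change f (u s) ∈ W
    rw [hfu, hWmem]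
    exact ⟨hs, hsU⟩⟩
  have hon₁ : On .quasi (V.ι ≫ u) ⟨U₁, hU₁⟩ := On.shrink (U := ⟨U, hU⟩) (V := ⟨U₁, hU₁⟩) inf_le_left
    (z := ⟨s, hs⟩) (by rw [hus]; exact hsU₁) hon
  obtain ⟨hcl, rs, hrs, hker⟩ := hon₁
  have e₁ : U₁ ≤ f ⁻¹ᵁ W := inf_le_right
  have e₂ : W ≤ u ⁻¹ᵁ U₁ := by
    intro t ht
    refine ⟨((hWmem t).mp ht).2, ?_⟩
    change f (u t) ∈ W
    rwa [hfu]
  have e₃ : (V.ι ≫ u) ⁻¹ᵁ U₁ ≤ V.ι ⁻¹ᵁ W := by
    intro t ht
    change V.ι t ∈ W
    rw [hWmem]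
    refine ⟨t.2, ?_⟩
    have h1 : (V.ι ≫ u) t ∈ U₁ := ht
    rw [Scheme.Hom.comp_apply] at h1
    exact h1.1
  have hcomp : f.appLE W U₁ e₁ ≫ u.appLE U₁ W e₂ = 𝟙 _ := by
    rw [Scheme.Hom.appLE_comp_appLE, appLE_eq_of_eq hu W W _ le_rfl]
    rw [Scheme.Hom.appLE]
    simp only [Scheme.Hom.id_app]
    exact (Category.id_comp _).trans (S.presheaf.map_id _)
  have hker' : RingHom.ker (u.appLE U₁ W e₂).hom = Ideal.ofList rs := by
    rw [← hker]
    have h1 : (V.ι ≫ u).app U₁ = u.appLE U₁ W e₂ ≫ V.ι.appLE W ((V.ι ≫ u) ⁻¹ᵁ U₁) e₃ := by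
      rw [Scheme.Hom.appLE_comp_appLE, Scheme.Hom.app_eq_appLE]
    have h2 : (V.ι ≫ u) ⁻¹ᵁ U₁ = V.ι ⁻¹ᵁ W := by
      apply le_antisymm e₃
      intro t ht
      have h3 := (hWmem (V.ι t)).mp ht
      change (V.ι ≫ u) t ∈ U₁
      rw [Scheme.Hom.comp_apply]
      exact e₂ ht
    have h3 : IsIso (V.ι.app W) := Scheme.Hom.isIso_app V.ι W (by
      intro t ht
      rw [Scheme.Opens.opensRange_ι]
      exact ((hWmem t).mp ht).1)
    have h4 : Function.Injective (V.ι.appLE W ((V.ι ≫ u) ⁻¹ᵁ U₁) e₃).hom := appLE_injective_of_eq h2 h3 e₃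
    rw [h1]
    ext a
    simp only [RingHom.mem_ker, CommRingCat.hom_comp, RingHom.comp_apply]
    exact ⟨fun h => by rw [h, map_zero], fun h => h4 (by rw [h, map_zero])⟩
  algebraize [(f.appLE W U₁ e₁).hom]
  have hfp : Algebra.FinitePresentation Γ(S, W) Γ(X, U₁) :=
    LocallyOfFinitePresentation.finitePresentation_appLE f hW hU₁ e₁
  let σ : Γ(X, U₁) →ₐ[Γ(S, W)] Γ(S, W) :=
    { (u.appLE U₁ W e₂).hom with
      commutes' := fun r => congr($(hcomp).hom r) }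
  have hlfp : LocallyOfFinitePresentation (Spec.map (f.appLE W U₁ e₁)) := by
    rw [HasRingHomProperty.Spec_iff (P := @LocallyOfFinitePresentation)]
    exact hfp
  have hsm := mem_smoothLocus_Spec σ rs hrs hker' (hW.primeIdealOf ⟨s, (hWmem s).mpr ⟨hs, hsU⟩⟩)
  have h4 := mem_smoothLocus_of_chart f hU₁ hW e₁ _ hsm
  have h5 : hU₁.fromSpec (Spec.map (u.appLE U₁ W e₂) (hW.primeIdealOf ⟨s, (hWmem s).mpr ⟨hs, hsU⟩⟩)) = u s := by
    rw [← Scheme.Hom.comp_apply, IsAffineOpen.SpecMap_appLE_fromSpec u hU₁ hW e₂, Scheme.Hom.comp_apply,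
      hW.fromSpec_primeIdealOf]
  rw [← h5]
  exact h4

end Groth.Agent.Unram17.K135.QRegSmooth
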