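import Groth.Agent.Smoothlim.SmoothLocusBC
import Groth.Agent.Smoothlim.LimBase

/-!
# The locus of the base where a morphism is smooth along a section

For `p₀ : Y₀ ⟶ Z₀` locally of finite presentation with a section `σ₀` and `t : T ⟶ Z₀`, `W p₀ σ₀ hσ₀ t` is the open
of the points of `T` at whose image under the base changed section the base change of `p₀` is smooth.
-/

set_option autoImplicit false
universe u

open CategoryTheory CategoryTheory.Limits AlgebraicGeometry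

namespace Groth.Agent.Unram17.K135.SecLocus

variable {Y₀ Z₀ : Scheme.{u}} (p₀ : Y₀ ⟶ Z₀) [LocallyOfFinitePresentation p₀] (σ₀ : Z₀ ⟶ Y₀) (hσ₀ : σ₀ ≫ p₀ = 𝟙 Z₀)

/-- the base changed section -/
noncomputable def sec {T : Scheme.{u}} (t : T ⟶ Z₀) : T ⟶ pullback p₀ t :=
  pullback.lift (t ≫ σ₀) (𝟙 T) (by rw [Category.assoc, hσ₀, Category.comp_id, Category.id_comp])

omit [LocallyOfFinitePresentation p₀] in
@[reassoc]
lemma sec_snd {T : Scheme.{u}} (t : T ⟶ Z₀) : sec p₀ σ₀ hσ₀ t ≫ pullback.snd p₀ t = 𝟙 T := pullback.lift_snd _ _ _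

omit [LocallyOfFinitePresentation p₀] in
@[reassoc]
lemma sec_fst {T : Scheme.{u}} (t : T ⟶ Z₀) : sec p₀ σ₀ hσ₀ t ≫ pullback.fst p₀ t = t ≫ σ₀ := pullback.lift_fst _ _ _

/-- the locus of smoothness along the section -/
noncomputable def W {T : Scheme.{u}} (t : T ⟶ Z₀) : T.Opens :=
  sec p₀ σ₀ hσ₀ t ⁻¹ᵁ (pullback.snd p₀ t).smoothLocus

lemma mem_W_iff {T P : Scheme.{u}} {t : T ⟶ Z₀} {r : P ⟶ Y₀} {q : P ⟶ T} [LocallyOfFinitePresentation q]
    (h : IsPullback r q p₀ t) (σ' : T ⟶ P) (h1 : σ' ≫ q = 𝟙 T) (h2 : σ' ≫ r = t ≫ σ₀) (z : T) :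
    z ∈ W p₀ σ₀ hσ₀ t ↔ σ' z ∈ q.smoothLocus := by
  have h3 : σ' ≫ h.isoPullback.hom = sec p₀ σ₀ hσ₀ t := by
    apply pullback.hom_ext
    · rw [Category.assoc, h.isoPullback_hom_fst, h2, sec_fst]
    · rw [Category.assoc, h.isoPullback_hom_snd, h1, sec_snd]
  have h4 : h.isoPullback.hom ≫ pullback.snd p₀ t = q := h.isoPullback_hom_snd
  have h5 := Scheme.Hom.preimage_smoothLocus_eq h.isoPullback.hom (pullback.snd p₀ t)
  have h6 : (h.isoPullback.hom ≫ pullback.snd p₀ t).smoothLocus = q.smoothLocus := by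
    congr 1
  rw [← h6, ← h5]
  change sec p₀ σ₀ hσ₀ t z ∈ (pullback.snd p₀ t).smoothLocus ↔
    h.isoPullback.hom (σ' z) ∈ (pullback.snd p₀ t).smoothLocus
  rw [← Scheme.Hom.comp_apply, h3]

lemma preimage_W_le {T T' : Scheme.{u}} (s : T' ⟶ T) (t : T ⟶ Z₀) (t' : T' ⟶ Z₀) (h : s ≫ t = t') :
    s ⁻¹ᵁ W p₀ σ₀ hσ₀ t ≤ W p₀ σ₀ hσ₀ t' := by
  subst h
  intro z hz
  let b : pullback p₀ (s ≫ t) ⟶ pullback p₀ t := pullback.lift (pullback.fst _ _) (pullback.snd _ _ ≫ s)
    (by rw [pullback.condition, Category.assoc])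
  have hb1 : b ≫ pullback.fst p₀ t = pullback.fst p₀ (s ≫ t) := pullback.lift_fst _ _ _
  have hb2 : b ≫ pullback.snd p₀ t = pullback.snd p₀ (s ≫ t) ≫ s := pullback.lift_snd _ _ _
  have hb : IsPullback b (pullback.snd p₀ (s ≫ t)) (pullback.snd p₀ t) s := by
    refine IsPullback.of_right ?_ hb2 (IsPullback.of_hasPullback p₀ t)
    rw [hb1]
    exact IsPullback.of_hasPullback _ _
  have hσ : sec p₀ σ₀ hσ₀ (s ≫ t) ≫ b = s ≫ sec p₀ σ₀ hσ₀ t := by
    apply pullback.hom_ext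
    · rw [Category.assoc, hb1, sec_fst, Category.assoc, Category.assoc, sec_fst]
    · rw [Category.assoc, hb2, sec_snd_assoc, Category.assoc, sec_snd, Category.comp_id]
  have h1 : b (sec p₀ σ₀ hσ₀ (s ≫ t) z) ∈ (pullback.snd p₀ t).smoothLocus := by
    rw [← Scheme.Hom.comp_apply, hσ, Scheme.Hom.comp_apply]
    exact hz
  exact (Groth.Agent.Smoothlim.SmoothLocusBC.mem_smoothLocus_iff_of_isPullback hb _
    (Or.inl (Groth.Agent.Smoothlim.SmoothLocusBC.flat_stalkMap_of_mem_smoothLocus h1))).mpr h1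

/-- The map on self fibre products. -/
noncomputable def selfMap {X S X₀ S₀ : Scheme.{u}} {q : X ⟶ X₀} {f : X ⟶ S} {f₀ : X₀ ⟶ S₀} {g : S ⟶ S₀}
    (h : IsPullback q f f₀ g) : pullback f f ⟶ pullback f₀ f₀ :=
  pullback.lift (pullback.fst f f ≫ q) (pullback.snd f f ≫ q) (by
    rw [Category.assoc, Category.assoc, h.w, pullback.condition_assoc])

/-- The self fibre product of a base change is the base change of the self fibre product. -/
lemma isPullback_self {X S X₀ S₀ : Scheme.{u}} {q : X ⟶ X₀} {f : X ⟶ S} {f₀ : X₀ ⟶ S₀} {g : S ⟶ S₀}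
    (h : IsPullback q f f₀ g) :
    IsPullback (selfMap h) (pullback.snd f f) (pullback.snd f₀ f₀) q := by
  have h2 := (IsPullback.of_hasPullback f f).paste_horiz h
  have h1 : selfMap h ≫ pullback.fst f₀ f₀ = pullback.fst f f ≫ q := pullback.lift_fst _ _ _
  rw [← h.w, ← h1] at h2
  exact IsPullback.of_right h2 (pullback.lift_snd _ _ _) (IsPullback.of_hasPullback f₀ f₀)

lemma diagonal_selfMap {X S X₀ S₀ : Scheme.{u}} {q : X ⟶ X₀} {f : X ⟶ S} {f₀ : X₀ ⟶ S₀} {g : S ⟶ S₀}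
    (h : IsPullback q f f₀ g) : pullback.diagonal f ≫ selfMap h = q ≫ pullback.diagonal f₀ := by
  apply pullback.hom_ext
  · rw [Category.assoc, selfMap, pullback.lift_fst, pullback.diagonal_fst_assoc, Category.assoc,
      pullback.diagonal_fst, Category.comp_id]
  · rw [Category.assoc, selfMap, pullback.lift_snd, pullback.diagonal_snd_assoc, Category.assoc,
      pullback.diagonal_snd, Category.comp_id]

end Groth.Agent.Unram17.K135.SecLocus
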